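import Mathlib
import Cfsg.Prelude.Def_Solvable
import Cfsg.Agent.Lib.H1.Cores
import Cfsg.Agent.Lib.H1.SZ
import Cfsg.Agent.Lib.H55.BaerSuzuki

/-!
A finite group in which no nontrivial element of odd order is conjugate to its inverse has a
normal Sylow `2`-subgroup.
-/

set_option autoImplicit false

open Subgroup
open scoped Pointwise

namespace H72.TwoClosed

/-- no nontrivial element of odd order is inverted by conjugation -/
def NoRealOdd (G : Type*) [Group G] : Prop :=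
  ∀ t y : G, Odd (orderOf y) → t * y * t⁻¹ = y⁻¹ → y = 1

variable {G : Type*} [Group G]

/-- an odd power of an element inverting `x` inverts `x` -/
theorem inverts_pow_odd {g x : G} (h : g * x * g⁻¹ = x⁻¹) {m : ℕ} (hm : Odd m) :
    g ^ m * x * (g ^ m)⁻¹ = x⁻¹ := by
  obtain ⟨k, rfl⟩ := hm
  have h2 : g ^ 2 * x * (g ^ 2)⁻¹ = x := by
    calc g ^ 2 * x * (g ^ 2)⁻¹ = g * (g * x * g⁻¹) * g⁻¹ := by rw [pow_two]; group
      _ = g * x⁻¹ * g⁻¹ := by rw [h]
      _ = (g * x * g⁻¹)⁻¹ := by group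
      _ = x := by rw [h, inv_inv]
  have h3 : ∀ j : ℕ, (g ^ 2) ^ j * x * ((g ^ 2) ^ j)⁻¹ = x := by
    intro j
    induction j with
    | zero => simp
    | succ j ih =>
      calc (g ^ 2) ^ (j + 1) * x * ((g ^ 2) ^ (j + 1))⁻¹
          = g ^ 2 * ((g ^ 2) ^ j * x * ((g ^ 2) ^ j)⁻¹) * (g ^ 2)⁻¹ := by
            rw [pow_succ']; group
        _ = x := by rw [ih, h2]
  calc g ^ (2 * k + 1) * x * (g ^ (2 * k + 1))⁻¹
      = g * ((g ^ 2) ^ k * x * ((g ^ 2) ^ k)⁻¹) * g⁻¹ := by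
        rw [pow_succ', pow_mul]; group
    _ = x⁻¹ := by rw [h3, h]

/-- a real element is inverted by a `2`-element -/
theorem exists_two_elt [Finite G] {g x : G} (h : g * x * g⁻¹ = x⁻¹) :
    ∃ s : G, s * x * s⁻¹ = x⁻¹ ∧ (∃ k : ℕ, orderOf s = 2 ^ k) ∧ s ∈ zpowers g := by
  obtain ⟨a, n, hn, hord⟩ := Nat.exists_eq_two_pow_mul_odd (orderOf_pos g).ne'
  refine ⟨g ^ n, inverts_pow_odd h hn, ⟨a, ?_⟩, Subgroup.npow_mem_zpowers g n⟩
  rw [orderOf_pow' g (by rintro rfl; simp at hn), hord, Nat.gcd_eq_right (Dvd.intro_left _ rfl),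
    Nat.mul_div_cancel _ (Nat.pos_of_ne_zero (by rintro rfl; simp at hn))]

/-- an element of odd order of `G ⧸ N`, `N` a normal `2`-subgroup, lifts to an element of odd order -/
theorem exists_odd_lift [Finite G] (N : Subgroup G) [N.Normal] (y : G ⧸ N) (hy : Odd (orderOf y)) :
    ∃ z : G, (z : G ⧸ N) = y ∧ Odd (orderOf z) := by
  obtain ⟨z, rfl⟩ := QuotientGroup.mk_surjective y
  obtain ⟨a, n, hn, hord⟩ := Nat.exists_eq_two_pow_mul_odd (orderOf_pos z).ne'
  have hcop : Nat.Coprime (2 ^ a) (orderOf (z : G ⧸ N)) :=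
    Nat.Coprime.pow_left a (Nat.coprime_two_left.mpr hy)
  obtain ⟨c, hc⟩ := exists_pow_eq_self_of_coprime hcop
  refine ⟨(z ^ (2 ^ a)) ^ c, ?_, ?_⟩
  · rw [QuotientGroup.mk_pow, QuotientGroup.mk_pow, hc]
  · refine Odd.of_dvd_nat hn (orderOf_dvd_of_pow_eq_one ?_)
    have h3 : 2 ^ a * c * n = orderOf z * c := by rw [hord]; ring
    rw [← pow_mul, ← pow_mul, ← mul_assoc, h3, pow_mul, pow_orderOf_eq_one, one_pow]

theorem lift_real [Finite G] (N : Subgroup G) [N.Normal] (hN : IsPGroup 2 N) (t y : G ⧸ N)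
    (hy : Odd (orderOf y)) (h : t * y * t⁻¹ = y⁻¹) :
    ∃ s z : G, (z : G ⧸ N) = y ∧ Odd (orderOf z) ∧ (s : G ⧸ N) = t ∧ s * z * s⁻¹ = z⁻¹ := by
  have : Fact (Nat.Prime 2) := ⟨Nat.prime_two⟩
  obtain ⟨z, rfl, hz⟩ := exists_odd_lift N y hy
  obtain ⟨s, rfl⟩ := QuotientGroup.mk_surjective t
  set R := zpowers z with hR
  have hRcard : Nat.card R = orderOf z := Nat.card_zpowers z
  obtain ⟨k, hk⟩ := hN.exists_card_eq
  have hcop : (Nat.card N).Coprime (Nat.card R) := by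
    rw [hRcard, hk]
    exact Nat.Coprime.pow_left k (Nat.coprime_two_left.mpr hz)
  have hdisj : N ⊓ R = ⊥ := (Subgroup.disjoint_of_coprime_natCard hcop).eq_bot
  have hrel : N.relIndex (N ⊔ R) = Nat.card R := by
    rw [Subgroup.relIndex_sup_left, ← Subgroup.inf_relIndex_right, hdisj, Subgroup.relIndex_bot_left]
  have hmem : s * z * s⁻¹ * z ∈ N := by
    rw [← QuotientGroup.eq_one_iff]
    simp only [QuotientGroup.mk_mul, QuotientGroup.mk_inv]
    rw [h, inv_mul_cancel]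
  have hconj : MulAut.conj s • R ≤ N ⊔ R := by
    intro w hw
    rw [H1.SZ.mem_conj_smul] at hw
    obtain ⟨j, hj⟩ := Subgroup.mem_zpowers_iff.mp hw
    have h1 : w = (s * z * s⁻¹) ^ j := by
      rw [conj_zpow, hj]; group
    rw [h1]
    apply zpow_mem
    have h2 : s * z * s⁻¹ = (s * z * s⁻¹ * z) * z⁻¹ := by group
    rw [h2]
    exact mul_mem (mem_sup_left hmem) (mem_sup_right (inv_mem (mem_zpowers z)))
  obtain ⟨n, hn, hnR⟩ := H1.SZ.conj_of_card_rel (N ⊔ R) N le_sup_left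
    (by rw [Subgroup.normalizer_eq_top]; exact le_top) (by rw [hrel]; exact hcop)
    (Or.inl (by
      have := hN.isNilpotent
      infer_instance)) (MulAut.conj s • R) R hconj le_sup_right
      (by rw [hrel, H1.SZ.card_conj_smul]) hrel.symm
  refine ⟨n * s, z, rfl, hz, ?_, ?_⟩
  · rw [QuotientGroup.mk_mul, (QuotientGroup.eq_one_iff n).mpr hn, one_mul]
  · have h1 : (n * s) * z * (n * s)⁻¹ ∈ R := by
      rw [← hnR, ← H1.SZ.conj_mul_smul, H1.SZ.mem_conj_smul]
      have : (n * s)⁻¹ * (n * s * z * (n * s)⁻¹) * (n * s) = z := by group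
      rw [this]
      exact mem_zpowers z
    have h2 : (n * s) * z * (n * s)⁻¹ * z ∈ N ⊓ R := by
      refine Subgroup.mem_inf.mpr ⟨?_, mul_mem h1 (mem_zpowers z)⟩
      rw [← QuotientGroup.eq_one_iff]
      simp only [QuotientGroup.mk_mul, QuotientGroup.mk_inv]
      rw [(QuotientGroup.eq_one_iff n).mpr hn, one_mul, h, inv_mul_cancel]
    rw [hdisj, Subgroup.mem_bot] at h2
    exact eq_inv_of_mul_eq_one_left h2

theorem NoRealOdd.quotient [Finite G] (hG : NoRealOdd G) (N : Subgroup G) [N.Normal]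
    (hN : IsPGroup 2 N) : NoRealOdd (G ⧸ N) := by
  intro t y hy h
  obtain ⟨s, z, hz, hzo, -, hsz⟩ := lift_real N hN t y hy h
  rw [← hz, hG s z hzo hsz, QuotientGroup.mk_one]

/-- **A group without nontrivial real elements of odd order is `2`-closed.** -/
theorem NoRealOdd.odd_quotient [Finite G] (hG : NoRealOdd G) :
    Odd (Nat.card (G ⧸ Cfsg.pCore 2 G)) := by
  have : Fact (Nat.Prime 2) := ⟨Nat.prime_two⟩
  rw [← Nat.not_even_iff_odd, even_iff_two_dvd]
  intro h2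
  obtain ⟨t, ht⟩ := exists_prime_orderOf_dvd_card' 2 h2
  have htt : t * t = 1 := by
    have h3 := pow_orderOf_eq_one t
    rw [ht, pow_two] at h3
    exact h3
  have hQ := hG.quotient (Cfsg.pCore 2 G) (H1.Cores.isPGroup_pCore 2)
  obtain ⟨M, hM, hMp, htM⟩ := H55.BaerSuzuki.exists_normal_of_involution t htt
    (fun x hx hxt => hQ t x hx hxt)
  have h1 := H1.Cores.le_pCore hM hMp htM
  rw [H1.Cores.pCore_quotient_pCore, Subgroup.mem_bot] at h1
  rw [h1, orderOf_one] at ht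
  exact absurd ht (by norm_num)

end H72.TwoClosed
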