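import Mathlib
import Cfsg.Agent.Lib.H72.TwoClosed
import Cfsg.Agent.Lib.H72.ClassSize
import Cfsg.Agent.Lib.H26.SupCard

/-!
Solvability criteria modulo the odd order theorem (`hFT`).
-/

set_option autoImplicit false

open Subgroup

universe u

namespace H72.FT4159

/-- the odd order theorem, in universe `u` -/
def FT : Prop := ∀ (K : Type u) [Group K] [Finite K], Odd (Nat.card K) → Group.IsSolvable K

theorem isSolvable_of_noRealOdd (hFT : FT.{u}) {G : Type u} [Group G] [Finite G]
    (hG : H72.TwoClosed.NoRealOdd G) : Group.IsSolvable G := by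
  have : Fact (Nat.Prime 2) := ⟨Nat.prime_two⟩
  have h1 : Group.IsSolvable (G ⧸ Cfsg.pCore 2 G) := hFT _ hG.odd_quotient
  have h2 : Group.IsSolvable (Cfsg.pCore 2 G) := by
    have := (H1.Cores.isPGroup_pCore (G := G) 2).isNilpotent
    infer_instance
  exact Group.isSolvable_of_ker_le_range (Cfsg.pCore 2 G).subtype (QuotientGroup.mk' (Cfsg.pCore 2 G))
    (by rw [QuotientGroup.ker_mk', Subgroup.range_subtype])

/-- key lemma: an element of odd prime order inverted by a `2`-element -/
theorem key {G : Type*} [Group G] [Finite G] {p : ℕ} (hp : p.Prime) (hp2 : p ≠ 2) {g y : G}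
    (hy : orderOf y = p) {k : ℕ} (hg : orderOf g = 2 ^ k) (hgy : g * y * g⁻¹ = y⁻¹) :
    ∃ (H : Subgroup G) (a b : H), 1 < (Subgroup.centralizer ({a} : Set H)).index ∧
      1 < (Subgroup.centralizer ({b} : Set H)).index ∧
      ((Subgroup.centralizer ({a} : Set H)).index).Coprime (Subgroup.centralizer ({b} : Set H)).index := by
  set H : Subgroup G := zpowers y ⊔ zpowers g with hH
  have hyH : y ∈ H := mem_sup_left (mem_zpowers y)
  have hgH : g ∈ H := mem_sup_right (mem_zpowers g)
  have hnorm : zpowers g ≤ Subgroup.normalizer (zpowers y : Set G) := by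
    rw [Subgroup.zpowers_le, ← H1.SZ.conj_smul_eq_iff]
    rw [H1.SZ.conj_smul_eq_map, MonoidHom.map_zpowers]
    show zpowers (g * y * g⁻¹) = _
    rw [hgy, Subgroup.zpowers_inv]
  have hcard : Nat.card H ∣ p * 2 ^ k := by
    have := H26.SupCard.card_sup_dvd_mul hnorm
    rwa [Nat.card_zpowers, Nat.card_zpowers, hy, hg] at this
  let a : H := ⟨y, hyH⟩
  let b : H := ⟨g, hgH⟩
  have hab : b * a * b⁻¹ = a⁻¹ := Subtype.ext hgy
  have hoa : orderOf a = p := by rw [← hy, ← Subgroup.orderOf_coe]
  have hob : orderOf b = 2 ^ k := by rw [← hg, ← Subgroup.orderOf_coe]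
  have hane : a ≠ a⁻¹ := by
    intro h
    have h2 : a ^ 2 = 1 := by rw [pow_two]; nth_rewrite 2 [h]; exact mul_inv_cancel a
    have h3 := orderOf_dvd_of_pow_eq_one h2
    rw [hoa] at h3
    exact hp2 ((Nat.prime_dvd_prime_iff_eq hp Nat.prime_two).mp h3)
  have hca : orderOf a ∣ Nat.card (centralizer ({a} : Set H)) :=
    Subgroup.orderOf_dvd_natCard _ (by rw [mem_centralizer_singleton_iff])
  have hcb : orderOf b ∣ Nat.card (centralizer ({b} : Set H)) :=
    Subgroup.orderOf_dvd_natCard _ (by rw [mem_centralizer_singleton_iff])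
  have hia : (centralizer ({a} : Set H)).index ∣ 2 ^ k := by
    obtain ⟨c, hc⟩ := hca
    have h1 := Subgroup.card_mul_index (centralizer ({a} : Set H))
    rw [hc, hoa] at h1
    rw [← h1, mul_assoc] at hcard
    exact (Dvd.intro_left _ rfl).trans (Nat.dvd_of_mul_dvd_mul_left hp.pos hcard)
  have hib : (centralizer ({b} : Set H)).index ∣ p := by
    obtain ⟨c, hc⟩ := hcb
    have h1 := Subgroup.card_mul_index (centralizer ({b} : Set H))
    rw [hc, hob] at h1
    rw [← h1, mul_assoc, mul_comm p] at hcard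
    exact (Dvd.intro_left _ rfl).trans (Nat.dvd_of_mul_dvd_mul_left (by positivity) hcard)
  have hgt : ∀ x z : H, z * x ≠ x * z → 1 < (centralizer ({x} : Set H)).index := by
    intro x z hne
    have h0 := H72.ClassSize.index_pos x
    have h1 : (centralizer ({x} : Set H)).index ≠ 1 := by
      intro h
      rw [Subgroup.index_eq_one] at h
      have h2 : z ∈ centralizer ({x} : Set H) := by rw [h]; exact mem_top z
      rw [mem_centralizer_singleton_iff] at h2
      exact hne h2
    omega
  have hncomm : b * a ≠ a * b := by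
    intro h
    apply hane
    rw [← hab, h, mul_inv_cancel_right]
  refine ⟨H, a, b, hgt a b hncomm, hgt b a hncomm.symm, ?_⟩
  refine Nat.Coprime.of_dvd hia hib ?_
  exact Nat.Coprime.pow_left k ((Nat.coprime_primes Nat.prime_two hp).mpr hp2.symm)

theorem noRealOdd {G : Type*} [Group G] [Finite G]
    (h : ∀ (H : Subgroup G) (x y : H), 1 < (Subgroup.centralizer ({x} : Set H)).index →
      1 < (Subgroup.centralizer ({y} : Set H)).index →
      ¬ ((Subgroup.centralizer ({x} : Set H)).index).Coprime (Subgroup.centralizer ({y} : Set H)).index) :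
    H72.TwoClosed.NoRealOdd G := by
  intro t y hy hty
  by_contra hne
  obtain ⟨s, hs, ⟨k, hk⟩, -⟩ := H72.TwoClosed.exists_two_elt hty
  have h1 : orderOf y ≠ 1 := fun h => hne (orderOf_eq_one_iff.mp h)
  obtain ⟨p, hp, hpd⟩ := Nat.exists_prime_and_dvd h1
  obtain ⟨m, hm⟩ := hpd
  have hp2 : p ≠ 2 := by
    rintro rfl
    rw [hm] at hy
    exact (Nat.not_even_iff_odd.mpr hy) ⟨m, by ring⟩
  have hm0 : m ≠ 0 := by
    rintro rfl
    rw [mul_zero] at hm
    exact (orderOf_pos y).ne' hm
  have hyo : orderOf (y ^ m) = p := by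
    rw [orderOf_pow' y hm0, hm, Nat.gcd_eq_right (Dvd.intro_left _ rfl),
      Nat.mul_div_cancel _ (Nat.pos_of_ne_zero hm0)]
  have hsy : s * y ^ m * s⁻¹ = (y ^ m)⁻¹ := by
    rw [← conj_pow, hs, inv_pow]
  obtain ⟨H, a, b, ha, hb, hab⟩ := key hp hp2 hyo hk hsy
  exact h H a b ha hb hab

theorem s4159 (hFT : FT.{u}) {G : Type u} [Group G] [Finite G]
    (h : ∀ (H : Subgroup G) (x y : H), 1 < (Subgroup.centralizer ({x} : Set H)).index →
      1 < (Subgroup.centralizer ({y} : Set H)).index →
      ¬ ((Subgroup.centralizer ({x} : Set H)).index).Coprime (Subgroup.centralizer ({y} : Set H)).index) :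
    Group.IsSolvable G :=
  isSolvable_of_noRealOdd hFT (noRealOdd h)

end H72.FT4159
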