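import Mathlib
import Cfsg.Prelude.Def_Transfer
import Cfsg.Agent.Lib.H72.FT4159
import Cfsg.Agent.Lib.H2.NPC
import Cfsg.Agent.Lib.H2.Frobenius
import Cfsg.Agent.Lib.H1.ThompsonNPC

/-!
S4193 modulo the odd order theorem.
-/

set_option autoImplicit false

open Subgroup

universe u

namespace H72.FT4193

variable {G : Type*} [Group G]

/-- the join of a cyclic `2`-group and a cyclic `2`-group normalizing it is a `2`-group -/
theorem isPGroup_sup_of_inverts [Finite G] {z s : G} (h : s * z * s⁻¹ = z⁻¹) {k l : ℕ}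
    (hz : orderOf z = 2 ^ k) (hs : orderOf s = 2 ^ l) : IsPGroup 2 (zpowers z ⊔ zpowers s : Subgroup G) := by
  have hnorm : zpowers s ≤ Subgroup.normalizer (zpowers z : Set G) := by
    rw [Subgroup.zpowers_le, ← H1.SZ.conj_smul_eq_iff]
    rw [H1.SZ.conj_smul_eq_map, MonoidHom.map_zpowers]
    show zpowers (s * z * s⁻¹) = _
    rw [h, Subgroup.zpowers_inv]
  have : Fact (Nat.Prime 2) := ⟨Nat.prime_two⟩
  have hcard := H26.SupCard.card_sup_dvd_mul hnorm
  rw [Nat.card_zpowers, Nat.card_zpowers, hz, hs, ← pow_add] at hcard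
  exact IsPGroup.of_card_dvd_pow hcard

/-- a real `2`-element has odd class size when real elements of a Sylow `2`-subgroup are central in it -/
theorem real_two_elt [Finite G] (S : Sylow 2 G)
    (hS : ∀ s : ↥(S : Subgroup G), IsConj s s⁻¹ → s ∈ Subgroup.center ↥(S : Subgroup G))
    {t z : G} {k : ℕ} (hz : orderOf z = 2 ^ k) (h : t * z * t⁻¹ = z⁻¹) :
    ¬ 2 ∣ (centralizer ({z} : Set G)).index := by
  have : Fact (Nat.Prime 2) := ⟨Nat.prime_two⟩
  obtain ⟨s, hs, ⟨l, hl⟩, -⟩ := H72.TwoClosed.exists_two_elt h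
  obtain ⟨P, hP⟩ := (isPGroup_sup_of_inverts hs hz hl).exists_le_sylow
  obtain ⟨g, rfl⟩ := MulAction.exists_smul_eq G S P
  have hzP : z ∈ (g • S : Sylow 2 G) := hP (mem_sup_left (mem_zpowers z))
  have hsP : s ∈ (g • S : Sylow 2 G) := hP (mem_sup_right (mem_zpowers s))
  rw [H72.ClassSize.not_dvd_index_iff]
  refine ⟨g • S, ?_⟩
  have hmem : ∀ w : G, w ∈ (g • S : Sylow 2 G) ↔ g⁻¹ * w * g ∈ S := by
    intro w
    rw [Sylow.smul_def]
    exact H1.SZ.mem_conj_smul
  rw [hmem] at hzP hsP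
  have hc := hS ⟨g⁻¹ * z * g, hzP⟩ (isConj_iff.mpr ⟨⟨g⁻¹ * s * g, hsP⟩, by
    apply Subtype.ext
    show g⁻¹ * s * g * (g⁻¹ * z * g) * (g⁻¹ * s * g)⁻¹ = (g⁻¹ * z * g)⁻¹
    calc g⁻¹ * s * g * (g⁻¹ * z * g) * (g⁻¹ * s * g)⁻¹ = g⁻¹ * (s * z * s⁻¹) * g := by group
      _ = (g⁻¹ * z * g)⁻¹ := by rw [hs]; group⟩)
  intro w hw
  have hw' := (hmem w).mp hw
  have h1 := Subgroup.mem_center_iff.mp hc ⟨g⁻¹ * w * g, hw'⟩
  have h2 : g⁻¹ * w * g * (g⁻¹ * z * g) = g⁻¹ * z * g * (g⁻¹ * w * g) := congrArg Subtype.val h1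
  rw [mem_centralizer_singleton_iff]
  have h3 : g⁻¹ * (w * z) * g = g⁻¹ * (z * w) * g := by
    calc g⁻¹ * (w * z) * g = g⁻¹ * w * g * (g⁻¹ * z * g) := by group
      _ = g⁻¹ * z * g * (g⁻¹ * w * g) := h2
      _ = g⁻¹ * (z * w) * g := by group
  exact mul_left_cancel (mul_right_cancel h3)

/-- the class size of a real element that is not an involution is even -/
theorem even_index_of_real [Finite G] {t x : G} (h : t * x * t⁻¹ = x⁻¹) (hx : x ≠ x⁻¹) :
    2 ∣ (centralizer ({x} : Set G)).index := by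
  let N : Subgroup G :=
    { carrier := {g | g * x * g⁻¹ = x ∨ g * x * g⁻¹ = x⁻¹}
      one_mem' := Or.inl (by simp)
      mul_mem' := by
        rintro a b (ha | ha) (hb | hb)
        · left
          calc a * b * x * (a * b)⁻¹ = a * (b * x * b⁻¹) * a⁻¹ := by group
            _ = x := by rw [hb, ha]
        · right
          calc a * b * x * (a * b)⁻¹ = a * (b * x * b⁻¹) * a⁻¹ := by group
            _ = (a * x * a⁻¹)⁻¹ := by rw [hb]; group
            _ = x⁻¹ := by rw [ha]
        · right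
          calc a * b * x * (a * b)⁻¹ = a * (b * x * b⁻¹) * a⁻¹ := by group
            _ = x⁻¹ := by rw [hb, ha]
        · left
          calc a * b * x * (a * b)⁻¹ = a * (b * x * b⁻¹) * a⁻¹ := by group
            _ = (a * x * a⁻¹)⁻¹ := by rw [hb]; group
            _ = x := by rw [ha, inv_inv]
      inv_mem' := by
        rintro a (ha | ha)
        · left
          calc a⁻¹ * x * a⁻¹⁻¹ = a⁻¹ * (a * x * a⁻¹) * a := by rw [ha, inv_inv]
            _ = x := by group
        · right
          calc a⁻¹ * x * a⁻¹⁻¹ = (a⁻¹ * x⁻¹ * a)⁻¹ := by group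
            _ = (a⁻¹ * (a * x * a⁻¹) * a)⁻¹ := by rw [ha]
            _ = x⁻¹ := by group }
  have hCN : centralizer ({x} : Set G) ≤ N := by
    intro g hg
    left
    exact (H72.ClassSize.mem_cent_iff x g).mp hg
  have htN : t ∈ N := Or.inr h
  have hrel : (centralizer ({x} : Set G)).relIndex N = 2 := by
    rw [Subgroup.relIndex_eq_two_iff]
    refine ⟨t, htN, ?_⟩
    intro b hb
    rcases hb with hb | hb
    · right
      refine ⟨(H72.ClassSize.mem_cent_iff x b).mpr hb, ?_⟩
      rw [H72.ClassSize.mem_cent_iff]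
      intro h2
      apply hx
      calc x = b * t * x * (b * t)⁻¹ := h2.symm
        _ = b * (t * x * t⁻¹) * b⁻¹ := by group
        _ = (b * x * b⁻¹)⁻¹ := by rw [h]; group
        _ = x⁻¹ := by rw [hb]
    · left
      constructor
      · rw [H72.ClassSize.mem_cent_iff]
        calc b * t * x * (b * t)⁻¹ = b * (t * x * t⁻¹) * b⁻¹ := by group
          _ = (b * x * b⁻¹)⁻¹ := by rw [h]; group
          _ = x := by rw [hb, inv_inv]
      · rw [H72.ClassSize.mem_cent_iff]
        intro h2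
        exact hx (h2.symm.trans hb)
  rw [← hrel]
  exact Subgroup.relIndex_dvd_index_of_le hCN

/-- if all real `2`-elements are central then odd elements normalizing a `2`-subgroup centralize it -/
theorem comm_of_real_central [Finite G]
    (hc : ∀ z t : G, (∃ k : ℕ, orderOf z = 2 ^ k) → t * z * t⁻¹ = z⁻¹ → z ∈ Subgroup.center G)
    (D : Subgroup G) (hD : IsPGroup 2 D) (x : G) (hx : x ∈ Subgroup.normalizer (D : Set G))
    (hxo : Nat.Coprime (orderOf x) 2) : ∀ (n : ℕ) (v : G), v ∈ D → orderOf v ≤ n → x * v = v * x := by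
  have : Fact (Nat.Prime 2) := ⟨Nat.prime_two⟩
  intro n
  induction n with
  | zero =>
    intro v _ hv
    exact absurd (orderOf_pos v) (by omega)
  | succ n ih =>
    intro v hv hn
    by_cases hv1 : v = 1
    · rw [hv1, mul_one, one_mul]
    have hpow : ∀ w ∈ D, ∃ k, orderOf w = 2 ^ k := by
      intro w hw
      obtain ⟨k, hk⟩ := (IsPGroup.iff_orderOf.mp hD) ⟨w, hw⟩
      exact ⟨k, by rw [← hk, ← Subgroup.orderOf_coe]⟩
    obtain ⟨k, hk⟩ := hpow v hv
    have hk0 : k ≠ 0 := by
      rintro rfl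
      rw [pow_zero, orderOf_eq_one_iff] at hk
      exact hv1 hk
    have hv2 : orderOf (v ^ 2) < orderOf v := by
      rw [orderOf_pow' v two_ne_zero]
      apply Nat.div_lt_self (orderOf_pos v)
      rw [Nat.gcd_eq_right]
      · norm_num
      · rw [hk]; exact dvd_pow_self 2 hk0
    have h1 : x * v ^ 2 = v ^ 2 * x := ih (v ^ 2) (pow_mem hv 2) (by omega)
    set u : G := x⁻¹ * v * x with hu
    have hu2 : u ^ 2 = v ^ 2 := by
      calc u ^ 2 = x⁻¹ * v ^ 2 * x := by rw [hu, pow_two, pow_two]; group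
        _ = x⁻¹ * (v ^ 2 * x) := by group
        _ = x⁻¹ * (x * v ^ 2) := by rw [h1]
        _ = v ^ 2 := by group
    have huD : u ∈ D := by
      have := (Subgroup.mem_normalizer_iff.mp (inv_mem hx) v).mp hv
      rwa [inv_inv] at this
    set w : G := v⁻¹ * u with hw
    have hwD : w ∈ D := mul_mem (inv_mem hv) huD
    have hreal : v⁻¹ * w * v⁻¹⁻¹ = w⁻¹ := by
      calc v⁻¹ * w * v⁻¹⁻¹ = (v ^ 2)⁻¹ * u * v := by rw [hw, pow_two]; group
        _ = (u ^ 2)⁻¹ * u * v := by rw [hu2]
        _ = w⁻¹ := by rw [hw, pow_two]; group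
    have hwc : w ∈ Subgroup.center G := hc w v⁻¹ (hpow w hwD) hreal
    have hwcomm : ∀ g : G, g * w = w * g := Subgroup.mem_center_iff.mp hwc
    have hw2 : w ^ 2 = 1 := by
      rw [hwcomm, mul_inv_cancel_right] at hreal
      rw [pow_two]
      nth_rewrite 1 [hreal]
      exact inv_mul_cancel w
    have hvw : x⁻¹ * v * x = v * w := by rw [hw, ← hu]; group
    have hj : ∀ j : ℕ, (x ^ j)⁻¹ * v * x ^ j = v * w ^ j := by
      intro j
      induction j with
      | zero => simp
      | succ j ihj =>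
        calc (x ^ (j + 1))⁻¹ * v * x ^ (j + 1) = x⁻¹ * ((x ^ j)⁻¹ * v * x ^ j) * x := by
              rw [pow_succ]; group
          _ = x⁻¹ * v * (w ^ j * x) := by rw [ihj]; group
          _ = x⁻¹ * v * (x * w ^ j) := by
              rw [((show Commute x w from hwcomm x).pow_right j).eq]
          _ = (x⁻¹ * v * x) * w ^ j := by group
          _ = v * w ^ (j + 1) := by rw [hvw, pow_succ']; group
    have hwn : w ^ orderOf x = 1 := by
      have := hj (orderOf x)
      rw [pow_orderOf_eq_one, inv_one, one_mul, mul_one] at this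
      exact (mul_eq_left.mp this.symm)
    have hw1 : w = 1 := by
      rw [← orderOf_eq_one_iff]
      exact Nat.eq_one_of_dvd_coprimes hxo (orderOf_dvd_of_pow_eq_one hwn) (orderOf_dvd_of_pow_eq_one hw2)
    rw [hw1, mul_one] at hvw
    calc x * v = x * (x⁻¹ * v * x) := by rw [hvw]
      _ = v * x := by group

theorem main (hFT : H72.FT4159.FT.{u}) {G : Type u} [Group G] [Finite G] (a : ℕ)
    (h : ∀ x : G, IsConj x x⁻¹ → x ∉ Subgroup.center G →
      ((Subgroup.centralizer ({x} : Set G)).index).factorization 2 = a) (S : Sylow 2 G)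
    (hS : ∀ s : ↥(S : Subgroup G), IsConj s s⁻¹ → s ∈ Subgroup.center ↥(S : Subgroup G)) :
    Group.IsSolvable G ∧
      Cfsg.HasNormalPComplement 2 ↥(Subgroup.closure {g : G | ∃ k : ℕ, orderOf g = 2 ^ k}) := by
  have : Fact (Nat.Prime 2) := ⟨Nat.prime_two⟩
  by_cases hcase : ∀ z t : G, (∃ k : ℕ, orderOf z = 2 ^ k) → t * z * t⁻¹ = z⁻¹ → z ∈ Subgroup.center G
  · -- normal 2-complement
    have hnpc : Cfsg.HasNormalPComplement 2 G := by
      apply H2.Frobenius.hasNPC_of_local
      intro D hD g hg hgo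
      rw [Subgroup.mem_centralizer_iff]
      intro v hv
      exact (comm_of_real_central hcase D hD g hg hgo _ v hv le_rfl).symm
    refine ⟨?_, H2.NPC.subgroup hnpc _⟩
    obtain ⟨P, N, hN, hc⟩ := hnpc
    have hidx : N.index = Nat.card P := hc.symm.index_eq_card
    have hcard : Nat.card N = (P : Subgroup G).index := hc.index_eq_card.symm
    have h1 : Group.IsSolvable N := by
      apply hFT
      rw [hcard, ← Nat.not_even_iff_odd, even_iff_two_dvd]
      exact P.not_dvd_index
    have h2 : Group.IsSolvable (G ⧸ N) := by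
      have h3 : IsPGroup 2 (G ⧸ N) := by
        obtain ⟨k, hk⟩ := P.2.exists_card_eq
        apply IsPGroup.of_card (n := k)
        rw [← hk, ← Subgroup.index_eq_card, hidx]
      have := h3.isNilpotent
      infer_instance
    exact Group.isSolvable_of_ker_le_range N.subtype (QuotientGroup.mk' N)
      (by rw [QuotientGroup.ker_mk', Subgroup.range_subtype])
  · -- 2-closed
    push Not at hcase
    obtain ⟨z, t, ⟨k, hk⟩, hzt, hzc⟩ := hcase
    have hodd := real_two_elt S hS hk hzt
    have ha : a = 0 := by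
      rw [← h z (isConj_iff.mpr ⟨t, hzt⟩) hzc]
      exact Nat.factorization_eq_zero_of_not_dvd hodd
    have hno : H72.TwoClosed.NoRealOdd G := by
      intro s y hy hsy
      by_contra hne
      have hyy : y ≠ y⁻¹ := by
        intro h2
        have h3 : y ^ 2 = 1 := by rw [pow_two]; nth_rewrite 2 [h2]; exact mul_inv_cancel y
        have h4 := orderOf_dvd_of_pow_eq_one h3
        have h5 : orderOf y = 1 :=
          Nat.eq_one_of_dvd_coprimes (Nat.coprime_two_right.mpr hy) dvd_rfl h4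
        exact hne (orderOf_eq_one_iff.mp h5)
      have hyc : y ∉ Subgroup.center G := by
        intro hc
        apply hyy
        rw [← hsy, Subgroup.mem_center_iff.mp hc s, mul_inv_cancel_right]
      have h2 := h y (isConj_iff.mpr ⟨s, hsy⟩) hyc
      rw [ha] at h2
      have h3 := even_index_of_real hsy hyy
      rcases (Nat.factorization_eq_zero_iff _ _).mp h2 with h4 | h4 | h4
      · exact h4 Nat.prime_two
      · exact h4 h3
      · exact H72.ClassSize.index_ne_zero y h4
    refine ⟨H72.FT4159.isSolvable_of_noRealOdd hFT hno, ?_⟩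
    apply H1.ThompsonNPC.of_isPGroup
    refine (H1.Cores.isPGroup_pCore (G := G) 2).to_le ?_
    rw [Subgroup.closure_le]
    rintro g ⟨k, hk⟩
    rw [SetLike.mem_coe, ← QuotientGroup.eq_one_iff, ← orderOf_eq_one_iff]
    have h1 : orderOf (g : G ⧸ Cfsg.pCore 2 G) ∣ 2 ^ k := by
      rw [← hk]
      exact orderOf_map_dvd (QuotientGroup.mk' (Cfsg.pCore 2 G)) g
    have h2 : orderOf (g : G ⧸ Cfsg.pCore 2 G) ∣ Nat.card (G ⧸ Cfsg.pCore 2 G) := orderOf_dvd_natCard _
    exact Nat.eq_one_of_dvd_coprimes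
      (Nat.Coprime.pow_left k (Nat.coprime_two_left.mpr hno.odd_quotient)) h1 h2

end H72.FT4193
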