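import Mathlib
import Cfsg.Agent.Lib.H72.TwoLargest
import Cfsg.Agent.Lib.H1.Cores

/-!
Itô's theorem on groups with two class sizes.
-/

set_option autoImplicit false

open Subgroup
open H72.TwoLargest

namespace H72.Ito

variable {G : Type*} [Group G] {n : ℕ}

structure Two (G : Type*) [Group G] (n : ℕ) : Prop where
  hn : 1 < n
  h : ∀ x : G, cs x = 1 ∨ cs x = n

namespace Two

variable [Finite G] (H : Two G n)

include H

omit [Finite G] in
theorem cs_eq {x : G} (hx : x ∉ center G) : cs x = n := by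
  rcases H.h x with h | h
  · exact absurd ((cs_eq_one x).mp h) hx
  · exact h

theorem cent_eq {x y : G} (hx : x ∉ center G) (hy : y ∉ center G)
    (h : centralizer ({x} : Set G) ≤ centralizer ({y} : Set G)) :
    centralizer ({x} : Set G) = centralizer ({y} : Set G) :=
  le_antisymm h (cent_eq_of_le h (by rw [H.cs_eq hx, H.cs_eq hy]))

theorem cent_eq_of_coprime {x y : G} (hx : x ∉ center G) (hy : y ∉ center G) (hc : x * y = y * x)
    (ho : (orderOf x).Coprime (orderOf y)) :
    centralizer ({x} : Set G) = centralizer ({y} : Set G) := by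
  have h1 := cent_mul hc ho
  have h2 : centralizer ({x * y} : Set G) ≤ centralizer ({x} : Set G) := by rw [h1]; exact inf_le_left
  have h3 : centralizer ({x * y} : Set G) ≤ centralizer ({y} : Set G) := by rw [h1]; exact inf_le_right
  have h4 : x * y ∉ center G := by
    intro h
    have h5 := cs_dvd_of_le h2
    rw [(cs_eq_one _).mpr h, H.cs_eq hx] at h5
    have := H.hn
    have := Nat.dvd_one.mp h5
    omega
  rw [← H.cent_eq h4 hx h2, H.cent_eq h4 hy h3]

end Two

theorem center_le_cent (x : G) : center G ≤ centralizer ({x} : Set G) := by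
  intro z hz
  exact mem_cent.mpr (mem_center_iff.mp hz x).symm

/-- commutators with an element `u` that is central modulo the center -/
theorem pow_mem_cent {p : ℕ} {u y : G} (hu : ∀ g : G, g * u * g⁻¹ * u⁻¹ ∈ center G)
    (hup : u ^ p ∈ center G) : y ^ p ∈ centralizer ({u} : Set G) := by
  set c := y * u * y⁻¹ * u⁻¹ with hc
  have hcZ : c ∈ center G := hu y
  have h1 : y * u * y⁻¹ = u * c := by
    rw [mem_center_iff.mp hcZ u, hc]; group
  have h2 := conj_pow_eq h1 (mem_center_iff.mp hcZ y) p
  have h3 : c ^ p = 1 := by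
    have h4 : (y * u * y⁻¹) ^ p = u ^ p := by
      rw [conj_pow, (mem_center_iff.mp hup y), mul_inv_cancel_right]
    rw [h1, (show Commute u c from mem_center_iff.mp hcZ u).mul_pow] at h4
    exact mul_eq_left.mp h4
  rw [h3, mul_one] at h2
  exact mem_cent.mpr (mul_inv_eq_iff_eq_mul.mp h2)

/-- existence of a noncentral element of order `p` in the center modulo the center -/
theorem exists_second_center [Finite G] {p : ℕ} [hp : Fact p.Prime] (hG : IsPGroup p G)
    (hne : center G ≠ ⊤) :
    ∃ u : G, u ∉ center G ∧ (∀ g : G, g * u * g⁻¹ * u⁻¹ ∈ center G) ∧ u ^ p ∈ center G := by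
  have hQ : IsPGroup p (G ⧸ center G) := hG.to_quotient _
  have hnt : Nontrivial (G ⧸ center G) := by
    rw [← not_subsingleton_iff_nontrivial]
    intro h
    apply hne
    exact QuotientGroup.subgroup_eq_top_of_subsingleton _ h
  have h1 : 1 < Nat.card (center (G ⧸ center G)) :=
    (Subgroup.one_lt_card_iff_ne_bot _).mpr hQ.bot_lt_center.ne'
  obtain ⟨k, hk⟩ := (hQ.to_subgroup (center (G ⧸ center G))).exists_card_eq
  have hk0 : k ≠ 0 := by
    rintro rfl
    rw [hk, pow_zero] at h1
    omega
  obtain ⟨w, hw⟩ := exists_prime_orderOf_dvd_card' (G := center (G ⧸ center G)) p (by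
    rw [hk]; exact dvd_pow_self p hk0)
  obtain ⟨u, hu⟩ := QuotientGroup.mk_surjective (w : G ⧸ center G)
  refine ⟨u, ?_, ?_, ?_⟩
  · intro h
    have h2 : (u : G ⧸ center G) = 1 := (QuotientGroup.eq_one_iff u).mpr h
    rw [hu] at h2
    have h3 : w = 1 := Subtype.ext h2
    rw [h3, orderOf_one] at hw
    exact hp.out.one_lt.ne hw
  · intro g
    rw [← QuotientGroup.eq_one_iff]
    simp only [QuotientGroup.mk_mul, QuotientGroup.mk_inv]
    rw [hu, mem_center_iff.mp w.2 (g : G ⧸ center G), mul_inv_cancel_right, mul_inv_cancel]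
  · rw [← QuotientGroup.eq_one_iff, QuotientGroup.mk_pow, hu]
    have h2 : w ^ p = 1 := by rw [← hw, pow_orderOf_eq_one]
    exact congrArg Subtype.val h2

/-- the `p`-group part of the theorem -/
theorem exists_abelian [Finite G] {p : ℕ} [hp : Fact p.Prime] (hG : IsPGroup p G) (H : Two G n) :
    ∃ A : Subgroup G, A.Normal ∧ IsMulCommutative A ∧ ∀ y : G, y ^ p ∈ A := by
  by_cases hall : ∀ y : G, y ^ p ∈ center G
  · exact ⟨center G, inferInstance, inferInstance, hall⟩
  push Not at hall
  obtain ⟨x, hx⟩ := hall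
  have hxZ : x ∉ center G := fun h => hx (pow_mem h p)
  have hCx : centralizer ({x} : Set G) = centralizer ({x ^ p} : Set G) :=
    H.cent_eq hxZ hx (H72.ClassSize.cent_le_cent_pow x p)
  set C := centralizer ({x} : Set G) with hC
  have h1 : ∀ y ∈ C, y ∉ center G → y ^ p ∈ center G → centralizer ({y} : Set G) = C := by
    intro y hy hyZ hyp
    have hxy : Commute x y := (show Commute y x from mem_cent.mp hy).symm
    have h2 : (x * y) ^ p = x ^ p * y ^ p := hxy.mul_pow p
    have h3 : centralizer ({(x * y) ^ p} : Set G) = C := by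
      rw [h2, cent_mul_center hyp, hCx]
    have h4 : (x * y) ^ p ∉ center G := by
      rw [h2]
      intro h
      apply hx
      have := mul_mem h (inv_mem hyp)
      rwa [mul_inv_cancel_right] at this
    have h5 : x * y ∉ center G := fun h => h4 (pow_mem h p)
    have h6 : centralizer ({x * y} : Set G) = C := by
      rw [← h3]
      exact H.cent_eq h5 h4 (H72.ClassSize.cent_le_cent_pow _ p)
    symm
    apply H.cent_eq hxZ hyZ
    intro g hg
    have h7 : Commute g x := mem_cent.mp hg
    have h8 : Commute g (x * y) := by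
      rw [← hC, ← h6] at hg
      exact mem_cent.mp hg
    have h9 : g * y = y * g := by
      have h10 : x⁻¹ * (x * y) = y := by group
      rw [← h10]
      exact (h7.inv_right.mul_right h8).eq
    exact mem_cent.mpr h9
  have h2 : ∀ d ∈ C, d ∉ center G → centralizer ({d} : Set G) = C := by
    intro d hd hdZ
    obtain ⟨k, hk⟩ := IsPGroup.iff_orderOf.mp hG d
    have hex : ∃ j : ℕ, d ^ (p ^ j) ∈ center G := ⟨k, by rw [← hk, pow_orderOf_eq_one]; exact one_mem _⟩
    classical
    have hj := Nat.find_spec hex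
    have hj0 : Nat.find hex ≠ 0 := by
      intro h0
      rw [h0, pow_zero, pow_one] at hj
      exact hdZ hj
    obtain ⟨i, hi⟩ := Nat.exists_eq_succ_of_ne_zero hj0
    have hmin := Nat.find_min hex (m := i) (by omega)
    rw [hi] at hj
    have h3 : (d ^ p ^ i) ^ p ∈ center G := by
      rw [← pow_mul, ← pow_succ]; exact hj
    have h4 := h1 _ (pow_mem hd _) hmin h3
    rw [← h4]
    exact H.cent_eq hdZ hmin (H72.ClassSize.cent_le_cent_pow _ _)
  obtain ⟨u, huZ, hu, hup⟩ := exists_second_center hG (fun h => hxZ (h ▸ mem_top x))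
  have huC : u ∈ C := by
    rw [hCx]
    have := pow_mem_cent (y := x) hu hup
    exact mem_cent.mpr (mem_cent.mp this).symm
  have hCu : centralizer ({u} : Set G) = C := h2 u huC huZ
  refine ⟨C, ?_, ?_, ?_⟩
  · constructor
    intro a ha g
    rw [← hCu] at ha ⊢
    have h3 : a * u = u * a := mem_cent.mp ha
    have h4 := hu g⁻¹
    set z := g⁻¹ * u * g⁻¹⁻¹ * u⁻¹ with hz
    have h5 : g⁻¹ * u * g = z * u := by rw [hz]; group
    have h6 : a * z = z * a := mem_center_iff.mp h4 a
    rw [mem_cent]
    calc g * a * g⁻¹ * u = g * (a * (g⁻¹ * u * g)) * g⁻¹ := by group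
      _ = g * (a * z * u) * g⁻¹ := by rw [h5]; group
      _ = g * (z * (a * u)) * g⁻¹ := by rw [h6]; group
      _ = g * (z * u) * a * g⁻¹ := by rw [h3]; group
      _ = g * (g⁻¹ * u * g) * a * g⁻¹ := by rw [h5]
      _ = u * (g * a * g⁻¹) := by group
  · refine ⟨⟨?_⟩⟩
    rintro ⟨a, ha⟩ ⟨b, hb⟩
    apply Subtype.ext
    show a * b = b * a
    by_cases haZ : a ∈ center G
    · exact (mem_center_iff.mp haZ b).symm
    · have h3 := h2 a ha haZ
      rw [← h3] at hb
      exact (mem_cent.mp hb).symm
  · intro y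
    rw [← hCu]
    exact pow_mem_cent hu hup

/-- arithmetic: `a r < b q` for `r ≠ q` implies `∏ a < ∏ b` -/
theorem prod_lt (s : Finset ℕ) (hs : 2 ≤ s.card) (a b : ℕ → ℕ)
    (h : ∀ r ∈ s, ∀ q ∈ s, r ≠ q → a r < b q) : ∏ r ∈ s, a r < ∏ r ∈ s, b r := by
  classical
  have hne : s.Nonempty := Finset.card_pos.mp (by omega)
  obtain ⟨q0, hq0, hmin⟩ := Finset.exists_min_image s b hne
  have hne2 : (s.erase q0).Nonempty := by
    apply Finset.card_pos.mp
    rw [Finset.card_erase_of_mem hq0]
    omega
  obtain ⟨r1, hr1⟩ := hne2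
  have hr1s := Finset.mem_of_mem_erase hr1
  have hr1q := Finset.ne_of_mem_erase hr1
  rw [← Finset.mul_prod_erase s a hq0, ← Finset.mul_prod_erase s b hq0,
    ← Finset.mul_prod_erase _ a hr1, ← Finset.mul_prod_erase _ b hr1, ← mul_assoc, ← mul_assoc]
  have h1 : a q0 * a r1 < b q0 * b r1 := by
    rw [mul_comm (b q0)]
    exact Nat.mul_lt_mul'' (h q0 hq0 r1 hr1s hr1q.symm) (h r1 hr1s q0 hq0 hr1q)
  have h2 : ∏ r ∈ (s.erase q0).erase r1, a r ≤ ∏ r ∈ (s.erase q0).erase r1, b r := by
    apply Finset.prod_le_prod' 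
    intro r hr
    have hr' := Finset.mem_of_mem_erase (Finset.mem_of_mem_erase hr)
    have hrq := Finset.ne_of_mem_erase (Finset.mem_of_mem_erase hr)
    exact (h r hr' q0 hq0 hrq).le.trans (hmin r hr')
  have h3 : 0 < ∏ r ∈ (s.erase q0).erase r1, b r := by
    apply Finset.prod_pos
    intro r hr
    have hr' := Finset.mem_of_mem_erase (Finset.mem_of_mem_erase hr)
    have hrq := Finset.ne_of_mem_erase (Finset.mem_of_mem_erase hr)
    exact lt_of_le_of_lt (Nat.zero_le _) (h q0 hq0 r hr' hrq.symm)
  calc _ ≤ a q0 * a r1 * ∏ r ∈ (s.erase q0).erase r1, b r := Nat.mul_le_mul_left _ h2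
    _ < b q0 * b r1 * ∏ r ∈ (s.erase q0).erase r1, b r := Nat.mul_lt_mul_of_pos_right h1 h3

theorem prod_primeFactors_subset {n : ℕ} (hn : n ≠ 0) (s : Finset ℕ) (hs : n.primeFactors ⊆ s) :
    ∏ r ∈ s, r ^ n.factorization r = n := by
  have h1 := Nat.prod_factorization_pow_eq_self hn
  rw [Nat.prod_factorization_eq_prod_primeFactors] at h1
  conv_rhs => rw [← h1]
  symm
  apply Finset.prod_subset hs
  intro x _ hx
  rw [← Nat.support_factorization, Finsupp.notMem_support_iff] at hx
  rw [hx, pow_zero]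

/-- a noncentral `q`-element in a subgroup `K ⊇ Z` with `q ∣ |K : Z|` -/
theorem exists_noncentral [Finite G] (K : Subgroup G) (q : ℕ) [hq : Fact q.Prime]
    (hd : q ∣ (center G).relIndex K) :
    ∃ v ∈ K, v ∉ center G ∧ ∃ l : ℕ, orderOf v = q ^ l := by
  by_contra hcon
  push Not at hcon
  obtain ⟨Q⟩ : Nonempty (Sylow q K) := inferInstance
  have h1 : (Q : Subgroup K) ≤ (center G).subgroupOf K := by
    intro v hv
    rw [mem_subgroupOf]
    by_contra hvZ
    obtain ⟨l, hl⟩ := IsPGroup.iff_orderOf.mp Q.2 ⟨v, hv⟩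
    exact hcon v v.2 hvZ l (by rw [← hl, ← Subgroup.orderOf_coe, ← Subgroup.orderOf_coe])
  have h2 := Subgroup.index_dvd_of_le h1
  exact Q.not_dvd_index (hd.trans h2)

/-- if `x ∈ K ∖ Z` is a `q`-element then `q ∣ |K : Z|` -/
theorem dvd_of_noncentral [Finite G] (K : Subgroup G) (q : ℕ) (hq : q.Prime)
    {x : G} (hx : x ∈ K) (hxZ : x ∉ center G) {l : ℕ} (hl : orderOf x = q ^ l) :
    q ∣ (center G).relIndex K := by
  by_contra hd
  apply hxZ
  have h1 := Subgroup.pow_index_mem ((center G).subgroupOf K) ⟨x, hx⟩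
  rw [mem_subgroupOf] at h1
  have h2 : x ^ (center G).relIndex K ∈ center G := by simpa [Subgroup.relIndex] using h1
  have h3 : x ^ (q ^ l) ∈ center G := by rw [← hl, pow_orderOf_eq_one]; exact one_mem _
  refine H3.LocalNPC.mem_of_pow_mem_of_coprime ?_ h2 h3
  apply Nat.Coprime.pow_right
  exact ((Nat.Prime.coprime_iff_not_dvd hq).mpr hd).symm

/-- `C(x)` is normalized by elements `g` with `[g, x]` central -/
theorem conj_mem_cent {x g v : G} (h : g * x * g⁻¹ * x⁻¹ ∈ center G)
    (hv : v ∈ centralizer ({x} : Set G)) : g * v * g⁻¹ ∈ centralizer ({x} : Set G) := by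
  rw [mem_cent] at hv ⊢
  set z := g * x * g⁻¹ * x⁻¹ with hz
  have h1 : g * x * g⁻¹ = z * x := by rw [hz]; group
  have h2 : g⁻¹ * x * g = z⁻¹ * x := by
    have h3 : g⁻¹ * (z * x) * g = x := by rw [← h1]; group
    have h4 : g⁻¹ * z = z * g⁻¹ := mem_center_iff.mp h g⁻¹
    calc g⁻¹ * x * g = z⁻¹ * (z * g⁻¹ * x * g) := by group
      _ = z⁻¹ * (g⁻¹ * (z * x) * g) := by rw [← h4]; group
      _ = z⁻¹ * x := by rw [h3]
  have h3 : v * z⁻¹ = z⁻¹ * v := mem_center_iff.mp (inv_mem h) v
  calc g * v * g⁻¹ * x = g * (v * (g⁻¹ * x * g)) * g⁻¹ := by group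
    _ = g * (v * z⁻¹ * x) * g⁻¹ := by rw [h2]; group
    _ = g * (z⁻¹ * (v * x)) * g⁻¹ := by rw [h3]; group
    _ = g * ((z⁻¹ * x) * v) * g⁻¹ := by rw [hv]; group
    _ = g * ((g⁻¹ * x * g) * v) * g⁻¹ := by rw [h2]
    _ = x * (g * v * g⁻¹) := by group

/-- `[k, v] ∈ Z` with coprime orders implies commuting -/
theorem comm_of_coprime {k v : G} (h : k * v * k⁻¹ * v⁻¹ ∈ center G)
    (hc : (orderOf k).Coprime (orderOf v)) : k * v = v * k := by
  set z := k * v * k⁻¹ * v⁻¹ with hz
  have h1 : k * v * k⁻¹ = v * z := by rw [mem_center_iff.mp h v, hz]; group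
  have h2 := conj_pow_eq h1 (mem_center_iff.mp h k) (orderOf k)
  rw [pow_orderOf_eq_one, inv_one, mul_one, one_mul] at h2
  have h3 : z ^ orderOf k = 1 := by
    have : v * 1 = v * z ^ orderOf k := by rw [mul_one]; exact h2
    exact (mul_left_cancel this).symm
  have h4 : z ^ orderOf v = 1 := by
    have h5 : (k * v * k⁻¹) ^ orderOf v = 1 := by
      rw [conj_pow, pow_orderOf_eq_one, mul_one, mul_inv_cancel]
    rw [h1, (show Commute v z from mem_center_iff.mp h v).mul_pow, pow_orderOf_eq_one, one_mul] at h5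
    exact h5
  have h5 : orderOf z = 1 :=
    Nat.eq_one_of_dvd_coprimes hc (orderOf_dvd_of_pow_eq_one h3) (orderOf_dvd_of_pow_eq_one h4)
  rw [orderOf_eq_one_iff] at h5
  rw [h5, mul_one] at h1
  exact mul_inv_eq_iff_eq_mul.mp h1

/-- counting: `|R : R ∩ C(x)| < q^{v_q |C(x) : Z|}` -/
theorem relIndex_lt [Finite G] {r q : ℕ} [hr : Fact r.Prime] [hq : Fact q.Prime] (hrq : r ≠ q)
    (R : Subgroup G) (hR : IsPGroup r R) {x : G} (hxR : ∀ g ∈ R, g * x * g⁻¹ * x⁻¹ ∈ center G)
    (hab : ∀ u ∈ centralizer ({x} : Set G), ∀ v ∈ centralizer ({x} : Set G), u * v = v * u)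
    {v : G} (hv : v ∈ centralizer ({x} : Set G)) (hvZ : v ∉ center G) {l : ℕ} (hl : orderOf v = q ^ l)
    (hCv : centralizer ({v} : Set G) = centralizer ({x} : Set G)) :
    (centralizer ({x} : Set G)).relIndex R <
      q ^ ((center G).relIndex (centralizer ({x} : Set G))).factorization q := by
  classical
  set C := centralizer ({x} : Set G) with hC
  -- the subgroup of `q`-elements of `C`
  let QC : Subgroup G :=
    { carrier := {w | w ∈ C ∧ ∃ l : ℕ, orderOf w = q ^ l}
      one_mem' := ⟨one_mem _, 0, by simp⟩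
      mul_mem' := by
        rintro a b ⟨ha, la, hla⟩ ⟨hb, lb, hlb⟩
        refine ⟨mul_mem ha hb, ?_⟩
        have hc : Commute a b := hab a ha b hb
        have h1 : orderOf (a * b) ∣ q ^ (la + lb) := by
          rw [pow_add, ← hla, ← hlb]
          exact hc.orderOf_mul_dvd_mul_orderOf
        obtain ⟨k, _, hk⟩ := (Nat.dvd_prime_pow hq.out).mp h1
        exact ⟨k, hk⟩
      inv_mem' := by
        rintro a ⟨ha, la, hla⟩
        exact ⟨inv_mem ha, la, by rw [orderOf_inv]; exact hla⟩ }
  have hQCp : IsPGroup q QC := by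
    rw [IsPGroup.iff_orderOf]
    rintro ⟨w, hw, l, hl⟩
    exact ⟨l, by rw [← hl, ← Subgroup.orderOf_coe]⟩
  set Q' := QC.map (QuotientGroup.mk' (center G)) with hQ'
  have hQ'p : IsPGroup q Q' := hQCp.map _
  have hcardQ' : Nat.card Q' ∣ q ^ ((center G).relIndex C).factorization q := by
    have h1 : Q' ≤ C.map (QuotientGroup.mk' (center G)) := Subgroup.map_mono fun w hw => hw.1
    have h2 : Nat.card (C.map (QuotientGroup.mk' (center G))) = (center G).relIndex C := by
      have h3 := H1.Cores.card_map_mk' (center G) C (center_le_cent x)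
      have h4 : Nat.card (center G) * (center G).relIndex C = Nat.card C := by
        rw [← Subgroup.relIndex_bot_left (center G), Subgroup.relIndex_mul_relIndex _ _ _ bot_le (center_le_cent x),
          Subgroup.relIndex_bot_left]
      exact Nat.eq_of_mul_eq_mul_left (Nat.card_pos (α := center G)) (h3.trans h4.symm)
    have h3 : Nat.card Q' ∣ (center G).relIndex C := h2 ▸ Subgroup.card_dvd_of_le h1
    obtain ⟨k, hk⟩ := hQ'p.exists_card_eq
    rw [hk] at h3 ⊢
    exact pow_dvd_pow q ((hq.out.pow_dvd_iff_le_factorization Subgroup.index_ne_zero_of_finite).mp h3)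
  have hvne : (QuotientGroup.mk v : G ⧸ center G) ≠ 1 := fun h => hvZ ((QuotientGroup.eq_one_iff v).mp h)
  -- injection
  have hmem : ∀ g ∈ R, g * v * g⁻¹ ∈ QC := fun g hg =>
    ⟨conj_mem_cent (hxR g hg) hv, l, by
      rw [← hl]
      exact orderOf_injective (MulAut.conj g).toMonoidHom (MulAut.conj g).injective v⟩
  have hinj : C.relIndex R ≤ Nat.card {w : Q' // w ≠ 1} := by
    let f : R → {w : Q' // w ≠ 1} := fun g =>
      ⟨⟨QuotientGroup.mk ((g : G) * v * (g : G)⁻¹), ⟨_, hmem g g.2, rfl⟩⟩, by
        intro h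
        have h1 : (QuotientGroup.mk ((g : G) * v * (g : G)⁻¹) : G ⧸ center G) = 1 :=
          congrArg Subtype.val h
        apply hvne
        rw [QuotientGroup.mk_mul, QuotientGroup.mk_mul, QuotientGroup.mk_inv] at h1
        have h2 : (QuotientGroup.mk v : G ⧸ center G) =
          (QuotientGroup.mk (g : G))⁻¹ * (QuotientGroup.mk (g : G) * QuotientGroup.mk v *
            (QuotientGroup.mk (g : G))⁻¹) * QuotientGroup.mk (g : G) := by group
        rw [h2, h1, mul_one, inv_mul_cancel]⟩
    have hf : ∀ g h : R, f g = f h → g⁻¹ * h ∈ C.subgroupOf R := by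
      intro g h hgh
      rw [mem_subgroupOf, ← hCv, mem_cent]
      have h1 : (QuotientGroup.mk ((g : G) * v * (g : G)⁻¹) : G ⧸ center G) =
        QuotientGroup.mk ((h : G) * v * (h : G)⁻¹) :=
        congrArg (fun w : {w : Q' // w ≠ 1} => ((w : Q') : G ⧸ center G)) hgh
      have h2 : ((g⁻¹ * h : R) : G) * v * ((g⁻¹ * h : R) : G)⁻¹ * v⁻¹ ∈ center G := by
        rw [← QuotientGroup.eq_one_iff]
        push_cast
        have h3 : (g : G)⁻¹ * h * v * ((g : G)⁻¹ * h)⁻¹ * v⁻¹ =
          (g : G)⁻¹ * ((h : G) * v * (h : G)⁻¹) * g * v⁻¹ := by group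
        rw [h3, QuotientGroup.mk_mul, QuotientGroup.mk_mul, QuotientGroup.mk_mul, ← h1,
          ← QuotientGroup.mk_mul, ← QuotientGroup.mk_mul, ← QuotientGroup.mk_mul]
        have h4 : (g : G)⁻¹ * ((g : G) * v * (g : G)⁻¹) * g * v⁻¹ = 1 := by group
        rw [h4, QuotientGroup.mk_one]
      apply comm_of_coprime h2
      obtain ⟨k, hk⟩ := IsPGroup.iff_orderOf.mp hR (g⁻¹ * h)
      rw [Subgroup.orderOf_coe, hk, hl]
      exact Nat.Coprime.pow _ _ ((Nat.coprime_primes hr.out hq.out).mpr hrq)
    have hinj' : Function.Injective (fun t : R ⧸ C.subgroupOf R => f t.out) := by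
      intro s t hst
      have h1 := hf _ _ hst
      rw [← QuotientGroup.out_eq' s, ← QuotientGroup.out_eq' t]
      exact QuotientGroup.eq.mpr h1
    exact Nat.card_le_card_of_injective _ hinj'
  have hlt : Nat.card {w : Q' // w ≠ 1} < Nat.card Q' := by
    have h1 : Nat.card {w : Q' // w ≠ 1} + 1 = Nat.card Q' := by
      have := Fintype.ofFinite Q'
      rw [Nat.card_eq_fintype_card, Nat.card_eq_fintype_card, Fintype.card_subtype_compl,
        Fintype.card_subtype_eq]
      have : 0 < Fintype.card Q' := Fintype.card_pos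
      omega
    omega
  calc C.relIndex R ≤ Nat.card {w : Q' // w ≠ 1} := hinj
    _ < Nat.card Q' := hlt
    _ ≤ _ := Nat.le_of_dvd (pow_pos hq.out.pos _) hcardQ'

/-- the `r`-part of the index of `C` is at most `|R : R ∩ C|` -/
theorem ordProj_le_relIndex [Finite G] {r : ℕ} [hr : Fact r.Prime] (R : Sylow r G) (C : Subgroup G) :
    r ^ C.index.factorization r ≤ C.relIndex (R : Subgroup G) := by
  have h1 : Nat.card (C ⊓ (R : Subgroup G) : Subgroup G) * C.relIndex (R : Subgroup G) = Nat.card R := by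
    rw [← Subgroup.inf_relIndex_right C (R : Subgroup G), ← Subgroup.relIndex_bot_left (C ⊓ (R : Subgroup G)),
      Subgroup.relIndex_mul_relIndex _ _ _ bot_le inf_le_right, Subgroup.relIndex_bot_left]
  have h2 : Nat.card R = r ^ (Nat.card G).factorization r := Sylow.card_eq_multiplicity R
  have h3 : IsPGroup r (C ⊓ (R : Subgroup G) : Subgroup G) := R.2.to_le inf_le_right
  obtain ⟨i, hi⟩ := h3.exists_card_eq
  have h4 : i ≤ (Nat.card C).factorization r := by
    have h5 : Nat.card (C ⊓ (R : Subgroup G) : Subgroup G) ∣ Nat.card C := Subgroup.card_dvd_of_le inf_le_left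
    rw [hi] at h5
    exact (hr.out.pow_dvd_iff_le_factorization Nat.card_pos.ne').mp h5
  have h5 : (Nat.card G).factorization r = (Nat.card C).factorization r + C.index.factorization r := by
    rw [← Subgroup.card_mul_index C, Nat.factorization_mul Nat.card_pos.ne' Subgroup.index_ne_zero_of_finite,
      Finsupp.add_apply]
  rw [h2, hi, h5, pow_add] at h1
  by_contra hlt
  push Not at hlt
  have h6 : r ^ i ≤ r ^ (Nat.card C).factorization r := Nat.pow_le_pow_right hr.out.pos h4
  have h7 : r ^ i * C.relIndex (R : Subgroup G) <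
      r ^ (Nat.card C).factorization r * r ^ C.index.factorization r := by
    calc r ^ i * C.relIndex (R : Subgroup G) ≤ r ^ (Nat.card C).factorization r * C.relIndex (R : Subgroup G) :=
          Nat.mul_le_mul_right _ h6
      _ < _ := Nat.mul_lt_mul_of_pos_left hlt (pow_pos hr.out.pos _)
  omega

/-- an element of `R ∖ Z` centralized by `R` modulo `Z` -/
theorem exists_central_mod [Finite G] {r : ℕ} [hr : Fact r.Prime] (R : Subgroup G) (hR : IsPGroup r R)
    (hRZ : ¬ R ≤ center G) : ∃ x ∈ R, x ∉ center G ∧ ∀ g ∈ R, g * x * g⁻¹ * x⁻¹ ∈ center G := by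
  set D := (center G).subgroupOf R with hD
  have hQ : IsPGroup r (R ⧸ D) := hR.to_quotient D
  have hnt : Nontrivial (R ⧸ D) := by
    rw [← not_subsingleton_iff_nontrivial]
    intro h
    apply hRZ
    have h1 : D = ⊤ := QuotientGroup.subgroup_eq_top_of_subsingleton _ h
    rw [hD, Subgroup.subgroupOf_eq_top] at h1
    exact h1
  have hnt2 := hQ.center_nontrivial
  obtain ⟨w, hw⟩ := exists_ne (1 : center (R ⧸ D))
  obtain ⟨x, hx⟩ := QuotientGroup.mk_surjective (w : R ⧸ D)
  refine ⟨x, x.2, ?_, ?_⟩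
  · intro h
    apply hw
    apply Subtype.ext
    rw [← hx]
    exact (QuotientGroup.eq_one_iff x).mpr (mem_subgroupOf.mpr h)
  · intro g hg
    have h1 : ((⟨g, hg⟩ * x * ⟨g, hg⟩⁻¹ * x⁻¹ : R) : G) ∈ center G := by
      rw [← mem_subgroupOf, ← hD, ← QuotientGroup.eq_one_iff]
      simp only [QuotientGroup.mk_mul, QuotientGroup.mk_inv]
      rw [hx, mem_center_iff.mp w.2 _, mul_inv_cancel_right, mul_inv_cancel]
    exact h1

namespace Two

variable [Finite G] (H : Two G n)

include H

omit [Finite G] in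
theorem relIndex_mul {x : G} (hx : x ∉ center G) :
    (center G).relIndex (centralizer ({x} : Set G)) * n = (center G).index := by
  have h1 := Subgroup.relIndex_mul_index (center_le_cent x)
  have h2 : (centralizer ({x} : Set G)).index = n := H.cs_eq hx
  rwa [h2] at h1

omit H in
theorem exists_of_dvd {r : ℕ} [Fact r.Prime] (hr : r ∣ (center G).index) :
    ∃ v : G, v ∉ center G ∧ ∃ l : ℕ, orderOf v = r ^ l := by
  obtain ⟨v, -, h1, h2⟩ := exists_noncentral (⊤ : Subgroup G) r (by
    rw [Subgroup.relIndex_top_right]; exact hr)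
  exact ⟨v, h1, h2⟩

/-- the case of a non prime power index: centralizers contain elements of coprime prime power order -/
theorem exists_other (hcon : ¬ ∃ p k : ℕ, p.Prime ∧ (center G).index = p ^ k) {x : G}
    (hx : x ∉ center G) {p k : ℕ} (hp : p.Prime) (hxo : orderOf x = p ^ k) :
    ∃ y ∈ centralizer ({x} : Set G), y ∉ center G ∧ ∃ q l : ℕ, q.Prime ∧ q ≠ p ∧ orderOf y = q ^ l := by
  by_contra hno
  push Not at hno
  apply hcon
  have hidx0 : (center G).index ≠ 0 := Subgroup.index_ne_zero_of_finite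
  refine ⟨p, (center G).index.primeFactorsList.length, hp, ?_⟩
  apply Nat.eq_prime_pow_of_unique_prime_dvd hidx0
  intro r hr hrN
  have : Fact r.Prime := ⟨hr⟩
  obtain ⟨v, hv, l, hl⟩ := exists_of_dvd hrN
  have h1 := dvd_of_noncentral (centralizer ({v} : Set G)) r hr (mem_cent.mpr rfl) hv hl
  have h2 : (center G).relIndex (centralizer ({v} : Set G)) =
      (center G).relIndex (centralizer ({x} : Set G)) := by
    have h3 := H.relIndex_mul hv
    rw [← H.relIndex_mul hx] at h3
    exact Nat.eq_of_mul_eq_mul_right (by have := H.hn; omega) h3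
  rw [h2] at h1
  obtain ⟨y, hy, hyZ, l', hl'⟩ := exists_noncentral _ r h1
  by_contra hrp
  exact hno y hy hyZ r l' hr hrp hl'

theorem abelian_of_primary (hcon : ¬ ∃ p k : ℕ, p.Prime ∧ (center G).index = p ^ k) {x : G}
    (hx : x ∉ center G) {p k : ℕ} (hp : p.Prime) (hxo : orderOf x = p ^ k) {u : G}
    (hu : u ∈ centralizer ({x} : Set G)) {v : G} (hv : v ∈ centralizer ({x} : Set G)) :
    u * v = v * u := by
  obtain ⟨y, hy, hyZ, q, l, hq, hqp, hyo⟩ := H.exists_other hcon hx hp hxo
  have hxy : centralizer ({x} : Set G) = centralizer ({y} : Set G) :=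
    H.cent_eq_of_coprime hx hyZ (mem_cent.mp hy).symm (by
      rw [hxo, hyo]; exact Nat.Coprime.pow _ _ ((Nat.coprime_primes hp hq).mpr hqp.symm))
  have key : u ∈ centralizer (centralizer ({x} : Set G) : Set G) := by
    apply H3.LocalNPC.mem_of_prime_powers (orderOf u) u rfl (orderOf_pos u)
    intro j s i hs ho _
    by_cases hwZ : u ^ j ∈ center G
    · exact Subgroup.center_le_centralizer _ hwZ
    have hw : u ^ j ∈ centralizer ({x} : Set G) := pow_mem hu j
    have h1 : centralizer ({u ^ j} : Set G) = centralizer ({x} : Set G) := by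
      by_cases hsp : s = p
      · have h2 : s ≠ q := by rw [hsp]; exact hqp.symm
        rw [hxy]
        rw [hxy] at hw
        exact H.cent_eq_of_coprime hwZ hyZ (mem_cent.mp hw) (by
          rw [ho, hyo]; exact Nat.Coprime.pow _ _ ((Nat.coprime_primes hs hq).mpr h2))
      · exact H.cent_eq_of_coprime hwZ hx (mem_cent.mp hw) (by
          rw [ho, hxo]; exact Nat.Coprime.pow _ _ ((Nat.coprime_primes hs hp).mpr hsp))
    rw [mem_centralizer_iff]
    intro t ht
    rw [SetLike.mem_coe, ← h1] at ht
    exact mem_cent.mp ht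
  exact (mem_centralizer_iff.mp key v hv).symm

theorem abelian (hcon : ¬ ∃ p k : ℕ, p.Prime ∧ (center G).index = p ^ k) {x : G}
    (hx : x ∉ center G) {u : G}
    (hu : u ∈ centralizer ({x} : Set G)) {v : G} (hv : v ∈ centralizer ({x} : Set G)) :
    u * v = v * u := by
  obtain ⟨j, q, k, hq, hj, hjZ⟩ := exists_primary_pow hx
  have h1 := H.cent_eq hx hjZ (H72.ClassSize.cent_le_cent_pow x j)
  rw [h1] at hu hv
  exact H.abelian_of_primary hcon hjZ hq hj hu hv

theorem isolated (hcon : ¬ ∃ p k : ℕ, p.Prime ∧ (center G).index = p ^ k) {x v : G}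
    (hx : x ∉ center G) (hv : v ∈ centralizer ({x} : Set G)) (hvZ : v ∉ center G) :
    centralizer ({v} : Set G) = centralizer ({x} : Set G) := by
  symm
  apply H.cent_eq hx hvZ
  intro t ht
  exact mem_cent.mpr (H.abelian hcon hx ht hv)

/-- `|C(x) : Z| ≤ n` -/
theorem le_n (hcon : ¬ ∃ p k : ℕ, p.Prime ∧ (center G).index = p ^ k) {x : G}
    (hx : x ∉ center G) : (center G).relIndex (centralizer ({x} : Set G)) ≤ n := by
  classical
  have hfin := Fintype.ofFinite G
  set c := (center G).relIndex (centralizer ({x} : Set G)) with hc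
  set z := Nat.card (center G) with hz
  have hzpos : 0 < z := Nat.card_pos
  have hrel : ∀ y : G, y ∉ center G → Nat.card (centralizer ({y} : Set G)) = z * c := by
    intro y hy
    have h3 := H.relIndex_mul hy
    rw [← H.relIndex_mul hx] at h3
    have h4 := Nat.eq_of_mul_eq_mul_right (by have := H.hn; omega) h3
    rw [hc, ← h4, hz, ← Subgroup.relIndex_bot_left (center G),
      Subgroup.relIndex_mul_relIndex _ _ _ bot_le (center_le_cent y), Subgroup.relIndex_bot_left]
  let S : Finset G := Finset.univ.filter fun g => g ∉ center G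
  have hScard : S.card + z = Nat.card G := by
    have h1 : (Finset.univ.filter fun g : G => g ∈ center G).card = z := by
      rw [hz, Nat.card_eq_fintype_card, Fintype.card_subtype]
    have h2 := Finset.card_filter_add_card_filter_not (s := (Finset.univ : Finset G)) (fun g => g ∈ center G)
    rw [Nat.card_eq_fintype_card, ← Finset.card_univ, ← h2, h1, add_comm]
  have hfib : ∀ K ∈ S.image (fun g => centralizer ({g} : Set G)),
      (S.filter fun g => centralizer ({g} : Set G) = K).card = z * (c - 1) := by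
    intro K hK
    obtain ⟨y, hy, rfl⟩ := Finset.mem_image.mp hK
    have hyZ : y ∉ center G := (Finset.mem_filter.mp hy).2
    have h1 : (S.filter fun g => centralizer ({g} : Set G) = centralizer ({y} : Set G)) =
        (Finset.univ.filter fun g => g ∈ centralizer ({y} : Set G)) \
          (Finset.univ.filter fun g => g ∈ center G) := by
      ext g
      simp only [S, Finset.mem_filter, Finset.mem_univ, true_and, Finset.mem_sdiff]
      constructor
      · rintro ⟨h2, h3⟩
        refine ⟨?_, h2⟩
        rw [← h3]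
        exact mem_cent.mpr rfl
      · rintro ⟨h2, h3⟩
        exact ⟨h3, H.isolated hcon hyZ h2 h3⟩
    rw [h1, Finset.card_sdiff_of_subset]
    · have h2 : (Finset.univ.filter fun g => g ∈ centralizer ({y} : Set G)).card = z * c := by
        rw [← hrel y hyZ, Nat.card_eq_fintype_card, Fintype.card_subtype]
      have h3 : (Finset.univ.filter fun g : G => g ∈ center G).card = z := by
        rw [hz, Nat.card_eq_fintype_card, Fintype.card_subtype]
      rw [h2, h3, Nat.mul_sub, mul_one]
    · intro g hg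
      rw [Finset.mem_filter] at hg ⊢
      exact ⟨Finset.mem_univ _, center_le_cent y hg.2⟩
  have hdvd : z * (c - 1) ∣ S.card := by
    rw [Finset.card_eq_sum_card_image (fun g => centralizer ({g} : Set G)) S]
    exact Finset.dvd_sum fun K hK => by rw [hfib K hK]
  -- `S.card = z * (c * n - 1)`
  have hG : Nat.card G = z * (c * n) := by
    rw [H.relIndex_mul hx, hz, Subgroup.card_mul_index]
  have hn := H.hn
  have hc0 : c ≠ 0 := Subgroup.index_ne_zero_of_finite
  have hS2 : S.card = z * (c * n - 1) := by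
    rw [Nat.mul_sub, mul_one, ← hG]
    omega
  rw [hS2] at hdvd
  have h1 : c - 1 ∣ c * n - 1 := Nat.dvd_of_mul_dvd_mul_left hzpos hdvd
  have h2 : c - 1 ∣ n - 1 := by
    have h3 : c * n - 1 = (c - 1) * n + (n - 1) := by
      have h4 : c * n = (c - 1) * n + n := by
        rw [Nat.sub_mul, one_mul]
        have : n ≤ c * n := Nat.le_mul_of_pos_left n (Nat.pos_of_ne_zero hc0)
        omega
      omega
    rw [h3] at h1
    exact (Nat.dvd_add_right (Dvd.intro _ rfl)).mp h1
  have h3 := Nat.le_of_dvd (by omega) h2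
  omega

/-- **the index of the center is a prime power** -/
theorem index_center (hex : ∃ x : G, x ∉ center G) :
    ∃ p k : ℕ, p.Prime ∧ (center G).index = p ^ k := by
  by_contra hcon
  obtain ⟨x0, hx0⟩ := hex
  have hle := H.le_n hcon hx0
  set c := (center G).relIndex (centralizer ({x0} : Set G)) with hc
  have hN : c * n = (center G).index := H.relIndex_mul hx0
  have hn := H.hn
  have hc0 : c ≠ 0 := Subgroup.index_ne_zero_of_finite
  have hrel : ∀ y : G, y ∉ center G → (center G).relIndex (centralizer ({y} : Set G)) = c := by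
    intro y hy
    have h3 := H.relIndex_mul hy
    rw [← hN] at h3
    exact Nat.eq_of_mul_eq_mul_right (by omega) h3
  have hidx0 : (center G).index ≠ 0 := Subgroup.index_ne_zero_of_finite
  have key : ∀ r ∈ (center G).index.primeFactors, ∀ q ∈ (center G).index.primeFactors, r ≠ q →
      r ^ n.factorization r < q ^ c.factorization q := by
    intro r hr q hq hrq
    have hrp := Nat.prime_of_mem_primeFactors hr
    have hqp := Nat.prime_of_mem_primeFactors hq
    have : Fact r.Prime := ⟨hrp⟩
    have : Fact q.Prime := ⟨hqp⟩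
    obtain ⟨R⟩ : Nonempty (Sylow r G) := inferInstance
    have hRZ : ¬ (R : Subgroup G) ≤ center G := by
      intro h
      exact R.not_dvd_index ((Nat.dvd_of_mem_primeFactors hr).trans (Subgroup.index_dvd_of_le h))
    obtain ⟨x, hxR, hxZ, hx⟩ := exists_central_mod (R : Subgroup G) R.2 hRZ
    -- a noncentral `q`-element in `C(x)`
    obtain ⟨w, hw, l, hl⟩ := exists_of_dvd (Nat.dvd_of_mem_primeFactors hq)
    have hqc : q ∣ c := by
      rw [← hrel w hw]
      exact dvd_of_noncentral _ q hqp (mem_cent.mpr rfl) hw hl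
    obtain ⟨v, hv, hvZ, l', hl'⟩ := exists_noncentral (centralizer ({x} : Set G)) q (by
      rw [hrel x hxZ]; exact hqc)
    have h1 := relIndex_lt hrq (R : Subgroup G) R.2 hx (fun u hu v hv => H.abelian hcon hxZ hu hv) hv hvZ hl'
      (H.isolated hcon hxZ hv hvZ)
    rw [hrel x hxZ] at h1
    have h2 := ordProj_le_relIndex R (centralizer ({x} : Set G))
    have h3 : (centralizer ({x} : Set G)).index = n := H.cs_eq hxZ
    rw [h3] at h2
    exact lt_of_le_of_lt h2 h1
  have hcard : 2 ≤ (center G).index.primeFactors.card := by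
    by_contra hlt
    have h1 : (center G).index.primeFactors.card = 0 ∨ (center G).index.primeFactors.card = 1 := by omega
    rcases h1 with h1 | h1
    · rw [Finset.card_eq_zero, Nat.primeFactors_eq_empty] at h1
      rcases h1 with h1 | h1
      · exact hidx0 h1
      · exact hcon ⟨2, 0, Nat.prime_two, by rw [h1, pow_zero]⟩
    · obtain ⟨p, hp⟩ := Finset.card_eq_one.mp h1
      apply hcon
      have hpp : p ∈ (center G).index.primeFactors := by rw [hp]; exact Finset.mem_singleton_self p
      refine ⟨p, _, Nat.prime_of_mem_primeFactors hpp, Nat.eq_prime_pow_of_unique_prime_dvd hidx0 ?_⟩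
      intro r hr hrN
      have h2 : r ∈ (center G).index.primeFactors := Nat.mem_primeFactors.mpr ⟨hr, hrN, hidx0⟩
      rw [hp] at h2
      exact Finset.mem_singleton.mp h2
  have h1 := prod_lt (center G).index.primeFactors hcard (fun r => r ^ n.factorization r)
    (fun r => r ^ c.factorization r) key
  have hnN : n.primeFactors ⊆ (center G).index.primeFactors :=
    Nat.primeFactors_mono (Dvd.intro_left _ hN) hidx0
  have hcN : c.primeFactors ⊆ (center G).index.primeFactors :=
    Nat.primeFactors_mono (Dvd.intro _ hN) hidx0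
  rw [prod_primeFactors_subset (by omega) _ hnN, prod_primeFactors_subset hc0 _ hcN] at h1
  omega

end Two

end H72.Ito
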