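import Mathlib
import Cfsg.Agent.Lib.H72.Ito
import Cfsg.Agent.Lib.H71.Basic

/-!
Groups in which every noncentral `p`-element has class size prime to `p` and commutes with no noncentral
`p'`-element: the Sylow `p`-subgroups are abelian.  Part 1: basic facts, exponents, `p = 2`.
-/

set_option autoImplicit false

open Subgroup
open H72.ClassSize H72.TwoLargest
open scoped Pointwise

namespace H72.AbSyl

variable {G : Type*} [Group G]

/-- a subgroup `K` containing the Sylow subgroup `P` in which all `p'`-elements are central: all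
`p`-elements of `K` lie in `P` -/
theorem mem_of_cent [Finite G] {p : ℕ} [hp : Fact p.Prime] {K : Subgroup G} {P : Sylow p G}
    (hPK : (P : Subgroup G) ≤ K) (hK : ∀ a ∈ K, ¬ p ∣ orderOf a → ∀ g ∈ K, a * g = g * a)
    {x : G} (hx : x ∈ K) {k : ℕ} (hk : orderOf x = p ^ k) : x ∈ P := by
  set P' : Sylow p K := P.subtype hPK with hP'
  have hcoe : (P' : Subgroup K) = (P : Subgroup G).subgroupOf K := rfl
  have hN : normalizer ((P' : Subgroup K) : Set K) = ⊤ := by
    by_contra hne
    have h1 : (normalizer ((P' : Subgroup K) : Set K)).index ≠ 1 := by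
      rwa [ne_eq, Subgroup.index_eq_one]
    obtain ⟨r, hr, hrd⟩ := Nat.exists_prime_and_dvd h1
    haveI : Fact r.Prime := ⟨hr⟩
    by_cases hrp : r = p
    · subst hrp
      have h2 : (normalizer ((P' : Subgroup K) : Set K)).index ∣ (P' : Subgroup K).index :=
        Subgroup.index_dvd_of_le le_normalizer
      exact P'.not_dvd_index (hrd.trans h2)
    · obtain ⟨R⟩ : Nonempty (Sylow r K) := inferInstance
      have h2 : (R : Subgroup K) ≤ normalizer ((P' : Subgroup K) : Set K) := by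
        intro y hy
        obtain ⟨j, hj⟩ := (IsPGroup.iff_orderOf.mp R.2) ⟨y, hy⟩
        rw [Subgroup.orderOf_mk] at hj
        have h3 : ¬ p ∣ orderOf (y : G) := by
          rw [Subgroup.orderOf_coe, hj]
          intro h
          exact hrp ((Nat.prime_dvd_prime_iff_eq hp.out hr).mp (hp.out.dvd_of_dvd_pow h)).symm
        have h4 : ∀ g : K, y * g = g * y := fun g => Subtype.ext (hK y y.2 h3 g g.2)
        rw [mem_normalizer_iff]
        intro g
        rw [h4 g, mul_inv_cancel_right]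
      exact R.not_dvd_index (hrd.trans (Subgroup.index_dvd_of_le h2))
  haveI : (P' : Subgroup K).Normal := normalizer_eq_top_iff.mp hN
  have h5 : (⟨x, hx⟩ : K) ^ (P' : Subgroup K).index ∈ (P' : Subgroup K) :=
    Subgroup.pow_index_mem _ _
  have h6 : (P' : Subgroup K).index.Coprime (p ^ k) :=
    Nat.Coprime.pow_right _ ((hp.out.coprime_iff_not_dvd.mpr P'.not_dvd_index).symm)
  have h7 : (⟨x, hx⟩ : K) ^ (p ^ k) = 1 := by
    apply Subtype.ext
    rw [Subgroup.coe_pow, ← hk]
    exact pow_orderOf_eq_one x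
  have h8 : (⟨x, hx⟩ : K) ∈ (P' : Subgroup K) := by
    have h9 := Nat.gcd_eq_gcd_ab (P' : Subgroup K).index (p ^ k)
    rw [h6] at h9
    have h10 : (⟨x, hx⟩ : K) = ((⟨x, hx⟩ : K) ^ (P' : Subgroup K).index) ^
        (Nat.gcdA (P' : Subgroup K).index (p ^ k)) * (((⟨x, hx⟩ : K) ^ (p ^ k)) ^
        (Nat.gcdB (P' : Subgroup K).index (p ^ k))) := by
      rw [← zpow_natCast, ← zpow_natCast, ← zpow_mul, ← zpow_mul, ← zpow_add, ← h9]
      simp
    rw [h10, h7, one_zpow, mul_one]
    exact Subgroup.zpow_mem _ h5 _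
  exact h8

/-- a `p`-element normalizing a Sylow `p`-subgroup lies in it -/
theorem mem_of_normalizes [Finite G] {p : ℕ} [hp : Fact p.Prime] {P : Sylow p G} {x : G} {k : ℕ}
    (hk : orderOf x = p ^ k) (hx : x ∈ normalizer ((P : Subgroup G) : Set G)) : x ∈ P := by
  have h1 : IsPGroup p (zpowers x) := IsPGroup.of_card (n := k) (by rw [Nat.card_zpowers, hk])
  have h2 := h1.inf_normalizer_sylow P
  have h3 : x ∈ zpowers x ⊓ normalizer (P : Set G) :=
    Subgroup.mem_inf.mpr ⟨mem_zpowers x, hx⟩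
  rw [h2] at h3
  exact h3.2

theorem mem_smul_iff {p : ℕ} (g : G) (Q : Sylow p G) (y : G) : y ∈ Q ↔ g * y * g⁻¹ ∈ (g • Q : Sylow p G) := by
  have h1 : g * y * g⁻¹ ∈ (g • Q : Sylow p G) ↔ g * y * g⁻¹ ∈ MulAut.conj g • (Q : Subgroup G) := Iff.rfl
  rw [h1, Subgroup.mem_pointwise_smul_iff_inv_smul_mem, ← map_inv, MulAut.smul_def,
    MulAut.conj_apply, inv_inv]
  have h2 : g⁻¹ * (g * y * g⁻¹) * g = y := by group
  rw [h2]
  rfl

theorem orderOf_of_mem [Finite G] {p : ℕ} [hp : Fact p.Prime] {P : Sylow p G} {x : G} (hx : x ∈ P) :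
    ∃ k : ℕ, orderOf x = p ^ k := by
  obtain ⟨k, hk⟩ := (IsPGroup.iff_orderOf.mp P.2) ⟨x, hx⟩
  rw [Subgroup.orderOf_mk] at hk
  exact ⟨k, hk⟩

/-- central `p`-elements lie in every Sylow `p`-subgroup -/
theorem mem_of_central [Finite G] {p : ℕ} [hp : Fact p.Prime] (P : Sylow p G) {z : G} {k : ℕ}
    (hk : orderOf z = p ^ k) (hz : z ∈ center G) : z ∈ P := by
  apply mem_of_normalizes hk
  rw [mem_normalizer_iff]
  intro h
  rw [← mem_center_iff.mp hz h, mul_inv_cancel_right]

/-- hypothesis: every noncentral `p`-element has class size prime to `p` and commutes with no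
noncentral `p'`-element -/
structure Hyp (G : Type*) [Group G] (p : ℕ) : Prop where
  h1 : ∀ u : G, u ∉ center G → (∃ k, orderOf u = p ^ k) → ¬ p ∣ (centralizer ({u} : Set G)).index
  h2 : ∀ u : G, u ∉ center G → (∃ k, orderOf u = p ^ k) → ∀ a ∈ centralizer ({u} : Set G),
    ¬ p ∣ orderOf a → a ∈ center G

variable [Finite G] {p : ℕ} [hp : Fact p.Prime] (H : Hyp G p)

include H

namespace Hyp

theorem mem_syl {u : G} (hu : u ∉ center G) (huo : ∃ k, orderOf u = p ^ k) {P : Sylow p G}
    (hP : (P : Subgroup G) ≤ centralizer ({u} : Set G)) {x : G} (hx : x ∈ centralizer ({u} : Set G))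
    (hk : ∃ k, orderOf x = p ^ k) : x ∈ P := by
  obtain ⟨k, hk⟩ := hk
  refine mem_of_cent hP ?_ hx hk
  intro a ha hao g _
  exact (mem_center_iff.mp (H.h2 u hu huo a ha hao) g).symm

theorem exists_syl {u : G} (hu : u ∉ center G) (huo : ∃ k, orderOf u = p ^ k) :
    ∃ P : Sylow p G, (P : Subgroup G) ≤ centralizer ({u} : Set G) ∧ u ∈ P := by
  obtain ⟨P, hP⟩ := (not_dvd_index_iff p u).mp (H.h1 u hu huo)
  exact ⟨P, hP, H.mem_syl hu huo hP (mem_cent.mpr rfl) huo⟩

theorem syl_unique {u : G} (hu : u ∉ center G) (huo : ∃ k, orderOf u = p ^ k) {P Q : Sylow p G}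
    (hP : (P : Subgroup G) ≤ centralizer ({u} : Set G))
    (hQ : (Q : Subgroup G) ≤ centralizer ({u} : Set G)) : P = Q := by
  have h : (P : Subgroup G) ≤ Q := fun x hx => H.mem_syl hu huo hQ (hP hx) (orderOf_of_mem hx)
  exact Sylow.ext (P.3 Q.2 h).symm

/-- two noncentral `p`-elements centralized by the same Sylow subgroup have the same centralizer -/
theorem cent_le {u v : G} (hu : u ∉ center G) (huo : ∃ k, orderOf u = p ^ k) {P : Sylow p G}
    (hP : (P : Subgroup G) ≤ centralizer ({u} : Set G)) (hv : (P : Subgroup G) ≤ centralizer ({v} : Set G)) :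
    centralizer ({u} : Set G) ≤ centralizer ({v} : Set G) := by
  intro g hg
  obtain ⟨x, y, hx, hy, hxy, -, hxo, hyo, -, -⟩ :=
    H71.Basic.exists_pPart g (isOfFinOrder_of_finite g) p hp.out
  have h1 : zpowers g ≤ centralizer ({u} : Set G) := by rwa [zpowers_le]
  rw [← hxy]
  refine mul_mem (hv (H.mem_syl hu huo hP (h1 hx) hxo)) ?_
  exact mem_cent.mpr (mem_center_iff.mp (H.h2 u hu huo y (h1 hy) hyo) v).symm

/-- an element commuting with a `p`-element modulo the centre commutes with it -/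
theorem comm_of_center {g v : G} (hvo : ∃ k, orderOf v = p ^ k) (h : g * v * g⁻¹ * v⁻¹ ∈ center G) :
    g * v = v * g := by
  by_cases hv : v ∈ center G
  · exact mem_center_iff.mp hv g
  obtain ⟨x, y, hx, hy, hxy, -, ⟨k, hxo⟩, hyo, -, -⟩ :=
    H71.Basic.exists_pPart g (isOfFinOrder_of_finite g) p hp.out
  have hS : ∀ t ∈ zpowers g, t * v * t⁻¹ * v⁻¹ ∈ center G := by
    intro t ht
    rw [← Subgroup.zpowers_le] at ht
    have h1 : (QuotientGroup.mk g : G ⧸ center G) * QuotientGroup.mk v =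
        QuotientGroup.mk v * QuotientGroup.mk g := by
      rw [← QuotientGroup.mk_mul, ← QuotientGroup.mk_mul]
      rw [QuotientGroup.eq]
      have h2 : (g * v)⁻¹ * (v * g) = (g * v * g⁻¹ * v⁻¹)⁻¹ := by
        have h3 := mem_center_iff.mp h (g * v)
        have h4 : (v * g) = (g * v * g⁻¹ * v⁻¹)⁻¹ * (g * v) := by group
        rw [h4, ← mem_center_iff.mp ((center G).inv_mem h) (g * v)]
        group
      rw [h2]
      exact (center G).inv_mem h
    obtain ⟨n, hn⟩ := Subgroup.mem_zpowers_iff.mp (ht (mem_zpowers t))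
    have h3 : Commute (QuotientGroup.mk t : G ⧸ center G) (QuotientGroup.mk v) := by
      rw [← hn, QuotientGroup.mk_zpow]
      exact Commute.zpow_left h1 n
    have h4 : ((t * v * t⁻¹ * v⁻¹ : G) : G ⧸ center G) = 1 := by
      rw [QuotientGroup.mk_mul, QuotientGroup.mk_mul, QuotientGroup.mk_mul, QuotientGroup.mk_inv,
        QuotientGroup.mk_inv, h3.eq]
      group
    exact (QuotientGroup.eq_one_iff _).mp h4
  have hyv : y * v = v * y := by
    apply H72.Ito.comm_of_coprime (hS y hy)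
    obtain ⟨j, hj⟩ := hvo
    rw [hj]
    exact Nat.Coprime.pow_right _ ((hp.out.coprime_iff_not_dvd.mpr hyo).symm)
  have hxv : x * v = v * x := by
    obtain ⟨P, hP, -⟩ := H.exists_syl hv hvo
    have h5 := hS x hx
    have h6 : x ∈ P := by
      apply mem_of_normalizes hxo
      have h7 : x • P = P := by
        apply H.syl_unique hv hvo ?_ hP
        intro w hw
        rw [Sylow.coe_subgroup_smul, Subgroup.mem_pointwise_smul_iff_inv_smul_mem] at hw
        have h8 : x⁻¹ * w * x ∈ P := by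
          have := hw
          rwa [← map_inv, MulAut.smul_def, MulAut.conj_apply, inv_inv] at this
        have h9 := H72.Ito.conj_mem_cent h5 (hP h8)
        have h10 : x * (x⁻¹ * w * x) * x⁻¹ = w := by group
        rwa [h10] at h9
      exact Sylow.smul_eq_iff_mem_normalizer.mp h7
    exact mem_cent.mp (hP h6)
  rw [← hxy, mul_assoc, hyv, ← mul_assoc, hxv, mul_assoc]

/-- if some Sylow subgroup is nonabelian then `v ^ p` is central for every `p`-element `v` -/
theorem pow_mem_center {P : Sylow p G} (hP : ¬ ∀ x ∈ P, ∀ y ∈ P, x * y = y * x) {v : G}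
    (hvo : ∃ k, orderOf v = p ^ k) : v ^ p ∈ center G := by
  classical
  -- an element of `P` not centralizing `P` whose `p`-th power centralizes `P`
  obtain ⟨u, huP, hu1, hu2⟩ : ∃ u ∈ P, ¬ (∀ y ∈ P, u * y = y * u) ∧ (∀ y ∈ P, u ^ p * y = y * u ^ p) := by
    push Not at hP
    obtain ⟨x, hx, y, hy, hxy⟩ := hP
    have hex : ∃ i : ℕ, ∀ y ∈ P, x ^ p ^ i * y = y * x ^ p ^ i := by
      obtain ⟨k, hk⟩ := orderOf_of_mem hx
      refine ⟨k, fun y _ => ?_⟩
      rw [← hk, pow_orderOf_eq_one, one_mul, mul_one]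
    have h0 : Nat.find hex ≠ 0 := by
      intro h0
      have := Nat.find_spec hex y hy
      rw [h0, pow_zero, pow_one] at this
      exact hxy this
    obtain ⟨i, hi⟩ := Nat.exists_eq_succ_of_ne_zero h0
    refine ⟨x ^ p ^ i, pow_mem hx _, ?_, ?_⟩
    · exact Nat.find_min hex (by rw [hi]; exact Nat.lt_succ_self i)
    · have := Nat.find_spec hex
      rw [hi, Nat.succ_eq_add_one, pow_succ, pow_mul] at this
      exact this
  have key : ∀ w ∈ P, ¬ (∀ y ∈ P, w * y = y * w) → (∀ y ∈ P, w ^ p * y = y * w ^ p) →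
      w ^ p ∈ center G := by
    intro w hw hw1 hw2
    by_contra hwZ
    have hwo := orderOf_of_mem hw
    have hwpo : ∃ k, orderOf (w ^ p) = p ^ k := orderOf_of_mem (pow_mem hw p)
    have hwn : w ∉ center G := fun h => hwZ (pow_mem h p)
    obtain ⟨Q, hQ, -⟩ := H.exists_syl hwn hwo
    have h1 : (Q : Subgroup G) ≤ centralizer ({w ^ p} : Set G) := hQ.trans (cent_le_cent_pow w p)
    have h2 : (P : Subgroup G) ≤ centralizer ({w ^ p} : Set G) := fun y hy => mem_cent.mpr (hw2 y hy).symm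
    have h3 := H.syl_unique hwZ hwpo h2 h1
    apply hw1
    intro y hy
    have h4 : y ∈ (Q : Subgroup G) := by rw [← h3]; exact hy
    exact (mem_cent.mp (hQ h4)).symm
  have hz : ∀ z ∈ P, (∀ y ∈ P, z * y = y * z) → z ^ p ∈ center G := by
    intro z hzP hz1
    have hc : Commute u z := (hz1 u huP).symm
    have h1 : (u * z) ^ p ∈ center G := by
      apply key (u * z) (mul_mem huP hzP)
      · intro h
        apply hu1
        intro y hy
        have h2 := h y hy
        rw [mul_assoc, hz1 y hy, ← mul_assoc, ← mul_assoc] at h2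
        exact mul_right_cancel h2
      · intro y hy
        rw [hc.mul_pow, mul_assoc, (show Commute (z ^ p) y from Commute.pow_left (hz1 y hy) p).eq, ← mul_assoc,
          hu2 y hy, mul_assoc]
    rw [hc.mul_pow] at h1
    have h2 := mul_mem ((center G).inv_mem (key u huP hu1 hu2)) h1
    rwa [inv_mul_cancel_left] at h2
  by_cases hv : v ∈ center G
  · exact pow_mem hv p
  obtain ⟨Q, hQ, hvQ⟩ := H.exists_syl hv hvo
  obtain ⟨g, hg⟩ := MulAction.exists_smul_eq G Q P
  have hmem : ∀ y, y ∈ Q ↔ g * y * g⁻¹ ∈ P := by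
    intro y
    rw [← hg]
    exact mem_smul_iff g Q y
  have h1 : (g * v * g⁻¹) ^ p ∈ center G := by
    apply hz _ ((hmem v).mp hvQ)
    intro y hy
    have h2 : g⁻¹ * y * g ∈ Q := by
      rw [hmem]
      have : g * (g⁻¹ * y * g) * g⁻¹ = y := by group
      rwa [this]
    have h3 := mem_cent.mp (hQ h2)
    calc g * v * g⁻¹ * y = g * (v * (g⁻¹ * y * g)) * g⁻¹ := by group
      _ = g * ((g⁻¹ * y * g) * v) * g⁻¹ := by rw [h3]
      _ = y * (g * v * g⁻¹) := by group
  rw [conj_pow] at h1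
  have h2 := (inferInstance : (center G).Normal).conj_mem _ h1 g⁻¹
  have h3 : g⁻¹ * (g * v ^ p * g⁻¹) * g⁻¹⁻¹ = v ^ p := by group
  rwa [h3] at h2

/-- the case `p = 2` -/
theorem abelian_two (hp2 : p = 2) (P : Sylow p G) : ∀ x ∈ P, ∀ y ∈ P, x * y = y * x := by
  by_contra hP
  apply hP
  intro x hx y hy
  have h1 := fun {v : G} (hv : v ∈ P) => H.pow_mem_center hP (orderOf_of_mem hv)
  have hx2 := h1 hx
  have hy2 := h1 hy
  have hxy2 := h1 (mul_mem hx hy)
  rw [hp2] at hx2 hy2 hxy2
  apply H.comm_of_center (orderOf_of_mem hy)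
  have e : x * y * x⁻¹ * y⁻¹ = (x * y) ^ 2 * (y ^ 2)⁻¹ * (y * (x ^ 2)⁻¹ * y⁻¹) := by
    simp only [pow_two]; group
  rw [e]
  exact mul_mem (mul_mem hxy2 ((center G).inv_mem hy2))
    ((inferInstance : (center G).Normal).conj_mem _ ((center G).inv_mem hx2) y)

end Hyp

end H72.AbSyl
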