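import Mathlib
import Cfsg.Agent.Lib.H72.AbSyl1
import Cfsg.Agent.Lib.H2.PGrp
import Cfsg.Agent.S0205

/-!
Groups in which every noncentral `p`-element has class size prime to `p` and commutes with no noncentral
`p'`-element: the Sylow `p`-subgroups are abelian.  Part 2: odd `p`.
-/

set_option autoImplicit false

open Subgroup
open H72.ClassSize H72.TwoLargest
open scoped Pointwise commutatorElement

namespace H72.AbSyl

/-- the norm identity for a group `Q⟨x⟩`, `x` of prime order acting fixed-point-freely on `Q` -/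
theorem frobNorm {Γ A : Type*} [Group Γ] [Finite Γ] [CommGroup A] [MulDistribMulAction Γ A] {p : ℕ}
    (hp : p.Prime) (A0 : Subgroup A) (hst : ∀ (g : Γ), ∀ a ∈ A0, g • a ∈ A0) (Q : Subgroup Γ)
    (hQn : Q.Normal) (x : Γ) (hx : x ^ p = 1) (h1 : ∀ q ∈ Q, x * q = q * x → q = 1)
    (h2 : ∀ q ∈ Q, ∀ v : A, ∏ i ∈ Finset.range p, ((q * x * q⁻¹) ^ i) • v ∈ A0)
    (h3 : ∀ v : A, (∀ q ∈ Q, q • v = v) → v ∈ A0) (v : A) : v ^ Nat.card Q ∈ A0 := by
  classical
  haveI : Fintype Q := Fintype.ofFinite Q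
  have hT : ∏ q : Q, ∏ i ∈ Finset.range p, ((q * x * (q : Γ)⁻¹) ^ i) • v ∈ A0 :=
    Subgroup.prod_mem _ fun q _ => h2 q q.2 v
  have hnorm : ∏ q : Q, (q : Γ) • v ∈ A0 := by
    apply h3
    intro q hq
    rw [Finset.smul_prod']
    apply Fintype.prod_bijective (fun t : Q => (⟨q, hq⟩ : Q) * t) (Group.mulLeft_bijective _)
    intro t
    rw [Subgroup.coe_mul, mul_smul]
  rw [Finset.prod_comm] at hT
  obtain ⟨m, rfl⟩ : ∃ m, p = m + 1 := ⟨p - 1, (Nat.succ_pred_eq_of_pos hp.pos).symm⟩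
  rw [Finset.prod_range_succ'] at hT
  have h4 : ∏ i ∈ Finset.range m, ∏ q : Q, ((q * x * (q : Γ)⁻¹) ^ (i + 1)) • v ∈ A0 := by
    apply Subgroup.prod_mem
    intro i hi
    rw [Finset.mem_range] at hi
    have h5 : ∏ q : Q, ((q * x * (q : Γ)⁻¹) ^ (i + 1)) • v = (x ^ (i + 1)) • ∏ q : Q, (q : Γ) • v := by
      rw [Finset.smul_prod']
      set y := x ^ (i + 1) with hy
      have hinj : Function.Injective (fun q : Q => (⟨y⁻¹ * q * y * (q : Γ)⁻¹, by
          have := hQn.conj_mem q q.2 y⁻¹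
          rw [inv_inv] at this
          exact Q.mul_mem this (Q.inv_mem q.2)⟩ : Q)) := by
        intro q q' hqq
        simp only [Subtype.mk.injEq] at hqq
        have h6 : ((q' : Γ)⁻¹ * q) * y = y * ((q' : Γ)⁻¹ * q) := by
          have h7 : (q : Γ) * y * (q : Γ)⁻¹ = q' * y * (q' : Γ)⁻¹ := by
            have h8 : y * (y⁻¹ * q * y * (q : Γ)⁻¹) = y * (y⁻¹ * q' * y * (q' : Γ)⁻¹) :=
              congrArg (fun t => y * t) hqq
            calc (q : Γ) * y * (q : Γ)⁻¹ = y * (y⁻¹ * q * y * (q : Γ)⁻¹) := by group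
              _ = y * (y⁻¹ * q' * y * (q' : Γ)⁻¹) := h8
              _ = q' * y * (q' : Γ)⁻¹ := by group
          calc ((q' : Γ)⁻¹ * q) * y = (q' : Γ)⁻¹ * (q * y * (q : Γ)⁻¹) * q := by group
            _ = (q' : Γ)⁻¹ * (q' * y * (q' : Γ)⁻¹) * q := by rw [h7]
            _ = y * ((q' : Γ)⁻¹ * q) := by group
        have hcop : Nat.Coprime (i + 1) (m + 1) := by
          apply Nat.Coprime.symm
          rw [hp.coprime_iff_not_dvd]
          intro hd
          have := Nat.le_of_dvd (Nat.succ_pos i) hd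
          omega
        have h9 : Commute ((q' : Γ)⁻¹ * q) x := by
          have h10 := Nat.gcd_eq_gcd_ab (i + 1) (m + 1)
          rw [hcop] at h10
          have h11 : x = y ^ (Nat.gcdA (i + 1) (m + 1)) := by
            have h12 : x = (x ^ (i + 1)) ^ (Nat.gcdA (i + 1) (m + 1)) *
                ((x ^ (m + 1)) ^ (Nat.gcdB (i + 1) (m + 1))) := by
              rw [← zpow_natCast, ← zpow_natCast, ← zpow_mul, ← zpow_mul, ← zpow_add, ← h10]
              simp
            rw [hx, one_zpow, mul_one] at h12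
            exact h12
          rw [h11]
          exact Commute.zpow_right h6 _
        have h13 := h1 _ (Q.mul_mem (Q.inv_mem q'.2) q.2) h9.eq.symm
        rw [inv_mul_eq_one] at h13
        exact Subtype.ext h13.symm
      apply Fintype.prod_bijective _ (Finite.injective_iff_bijective.mp hinj)
      intro q
      simp only
      rw [conj_pow, ← hy, ← mul_smul]
      congr 1
      group
    rw [h5]
    exact hst _ _ hnorm
  have h14 : ∏ q : Q, ((q * x * (q : Γ)⁻¹) ^ 0) • v = v ^ Nat.card Q := by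
    simp [Finset.prod_const, Nat.card_eq_fintype_card]
  rw [h14] at hT
  have h15 := A0.mul_mem (A0.inv_mem h4) hT
  rwa [inv_mul_cancel_left] at h15

theorem exists_normal_pgroup {S : Type*} [Group S] [Finite S] (hS : Group.IsSolvable S) [Nontrivial S] :
    ∃ (p : ℕ) (_ : Fact p.Prime) (N : Subgroup S), N.Normal ∧ N ≠ ⊥ ∧ IsPGroup p N := by
  classical
  obtain ⟨n0, hn0⟩ := hS.solvable
  have hex : ∃ n, derivedSeries S n = ⊥ := ⟨n0, hn0⟩
  set n := Nat.find hex with hn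
  have h1 : derivedSeries S n = ⊥ := Nat.find_spec hex
  have h2 : n ≠ 0 := by
    intro h
    rw [h, derivedSeries_zero] at h1
    exact top_ne_bot h1
  obtain ⟨k, hk⟩ := Nat.exists_eq_succ_of_ne_zero h2
  have h3 : derivedSeries S k ≠ ⊥ := Nat.find_min hex (by omega)
  have hab : ∀ x ∈ derivedSeries S k, ∀ y ∈ derivedSeries S k, x * y = y * x := by
    intro x hx y hy
    have h4 : ⁅x, y⁆ ∈ derivedSeries S (k + 1) := by
      rw [derivedSeries_succ]
      exact Subgroup.commutator_mem_commutator hx hy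
    rw [show k + 1 = n from hk.symm, h1, Subgroup.mem_bot] at h4
    exact commutatorElement_eq_one_iff_mul_comm.1 h4
  set D := derivedSeries S k with hD
  have hDn : D.Normal := inferInstance
  obtain ⟨⟨u, hu⟩, hu1⟩ := Subgroup.ne_bot_iff_exists_ne_one.1 h3
  have hu1' : u ≠ 1 := fun h => hu1 (Subtype.ext h)
  have h5 : orderOf u ≠ 1 := fun h => hu1' (orderOf_eq_one_iff.1 h)
  obtain ⟨p, hp, hpu⟩ := Nat.exists_prime_and_dvd h5
  haveI : Fact p.Prime := ⟨hp⟩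
  let N : Subgroup S :=
    { carrier := {x | x ∈ D ∧ x ^ p = 1}
      one_mem' := ⟨one_mem _, one_pow _⟩
      mul_mem' := by
        rintro a b ⟨ha, ha'⟩ ⟨hb, hb'⟩
        refine ⟨mul_mem ha hb, ?_⟩
        rw [(show Commute a b from hab a ha b hb).mul_pow, ha', hb', one_mul]
      inv_mem' := by
        rintro a ⟨ha, ha'⟩
        exact ⟨inv_mem ha, by rw [inv_pow, ha', inv_one]⟩ }
  refine ⟨p, ⟨hp⟩, N, ⟨?_⟩, ?_, ?_⟩
  · rintro x ⟨hx, hx'⟩ g
    exact ⟨hDn.conj_mem x hx g, by rw [conj_pow, hx', mul_one, mul_inv_cancel]⟩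
  · intro h
    have h6 : u ^ (orderOf u / p) ∈ N :=
      ⟨Subgroup.pow_mem _ hu _, by rw [← pow_mul, Nat.div_mul_cancel hpu, pow_orderOf_eq_one]⟩
    rw [h, Subgroup.mem_bot] at h6
    have h7 := orderOf_dvd_of_pow_eq_one h6
    have h8 := Nat.le_of_dvd (Nat.div_pos (Nat.le_of_dvd (orderOf_pos u) hpu) hp.pos) h7
    have h9 := Nat.div_lt_self (orderOf_pos u) hp.one_lt
    omega
  · rintro ⟨x, hx, hx'⟩
    exact ⟨1, Subtype.ext (by simpa using hx')⟩

/-- lifting an `r`-element through a homomorphism -/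
theorem lift_elt {M1 M2 : Type*} [Group M1] [Finite M1] [Group M2] (φ : M1 →* M2) {r : ℕ} (hr : r.Prime)
    {n : M1} (h : ∃ k, orderOf (φ n) = r ^ k) : ∃ f : M1, φ f = φ n ∧ ∃ k, orderOf f = r ^ k := by
  obtain ⟨x, y, hx, hy, hxy, -, hxo, hyo, -, -⟩ :=
    H71.Basic.exists_pPart n (isOfFinOrder_of_finite n) r hr
  refine ⟨x, ?_, hxo⟩
  obtain ⟨k, hk⟩ := h
  obtain ⟨m, hm⟩ := Subgroup.mem_zpowers_iff.mp hy
  have h1 : orderOf (φ y) ∣ r ^ k := by
    rw [← hk, ← hm, map_zpow]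
    exact orderOf_dvd_of_mem_zpowers (Subgroup.zpow_mem _ (mem_zpowers _) m)
  have h2 : orderOf (φ y) = 1 := by
    obtain ⟨j, -, hj⟩ := (Nat.dvd_prime_pow hr).mp h1
    rcases Nat.eq_zero_or_pos j with h0 | h0
    · rw [hj, h0, pow_zero]
    · exfalso
      apply hyo
      have h3 : r ∣ orderOf (φ y) := by
        rw [hj]
        exact dvd_pow_self r (by omega)
      exact h3.trans (orderOf_map_dvd φ y)
  rw [← hxy, map_mul, orderOf_eq_one_iff.mp h2, mul_one]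

variable {G : Type*} [Group G] [Finite G] {p : ℕ} [hp : Fact p.Prime]

/-- a maximal noncentral intersection of two Sylow subgroups -/
structure MaxInt (P1 P2 : Sylow p G) : Prop where
  ne : P1 ≠ P2
  nc : ∃ d, d ∈ P1 ∧ d ∈ P2 ∧ d ∉ center G
  mx : ∀ Q1 Q2 : Sylow p G, Q1 ≠ Q2 → (∃ d, d ∈ Q1 ∧ d ∈ Q2 ∧ d ∉ center G) →
    Nat.card ↥((Q1 : Subgroup G) ⊓ Q2) ≤ Nat.card ↥((P1 : Subgroup G) ⊓ P2)

theorem MaxInt.symm {P1 P2 : Sylow p G} (h : MaxInt P1 P2) : MaxInt P2 P1 := by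
  refine ⟨h.ne.symm, ?_, ?_⟩
  · obtain ⟨d, h1, h2, h3⟩ := h.nc
    exact ⟨d, h2, h1, h3⟩
  · intro Q1 Q2 h1 h2
    rw [inf_comm (P2 : Subgroup G)]
    exact h.mx Q1 Q2 h1 h2

theorem Hyp.exists_maxInt (H : Hyp G p) {P : Sylow p G} (hP : ¬ ∀ x ∈ P, ∀ y ∈ P, x * y = y * x) :
    ∃ P1 P2 : Sylow p G, MaxInt P1 P2 := by
  classical
  push Not at hP
  obtain ⟨x, hx, y, hy, hxy⟩ := hP
  have hxn : x ∉ center G := fun h => hxy (mem_center_iff.mp h y).symm
  obtain ⟨Q, hQ, hxQ⟩ := H.exists_syl hxn (orderOf_of_mem hx)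
  have hQP : Q ≠ P := by
    intro h
    apply hxy
    rw [← h] at hy
    exact (mem_cent.mp (hQ hy)).symm
  let S := {pr : Sylow p G × Sylow p G // pr.1 ≠ pr.2 ∧ ∃ d, d ∈ pr.1 ∧ d ∈ pr.2 ∧ d ∉ center G}
  haveI : Nonempty S := ⟨⟨(Q, P), hQP, x, hxQ, hx, hxn⟩⟩
  obtain ⟨⟨⟨P1, P2⟩, h1, h2⟩, h3⟩ := Finite.exists_max
    (fun s : S => Nat.card ↥((s.1.1 : Subgroup G) ⊓ s.1.2))
  exact ⟨P1, P2, h1, h2, fun Q1 Q2 h4 h5 => h3 ⟨(Q1, Q2), h4, h5⟩⟩

namespace MaxInt

variable {P1 P2 : Sylow p G} (M : MaxInt P1 P2)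
include M

theorem eq_of_lt {T : Sylow p G} (h : (P1 : Subgroup G) ⊓ P2 < (T : Subgroup G) ⊓ P1) : T = P1 := by
  by_contra hne
  obtain ⟨d, h1, h2, h3⟩ := M.nc
  have h4 := M.mx T P1 hne ⟨d, (h.le (Subgroup.mem_inf.mpr ⟨h1, h2⟩)).1, h1, h3⟩
  exact h.ne (Subgroup.eq_of_le_of_card_ge h.le h4)

theorem lt_left : (P1 : Subgroup G) ⊓ P2 < P1 := by
  refine lt_of_le_of_ne inf_le_left ?_
  intro h
  exact M.ne (Sylow.ext (P1.3 P2.2 (inf_eq_left.mp h)).symm)

theorem lt_inf : (P1 : Subgroup G) ⊓ P2 < (P1 : Subgroup G) ⊓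
    normalizer (((P1 : Subgroup G) ⊓ P2 : Subgroup G) : Set G) :=
  H2.PGrp.lt_inf_normalizer P1.2 M.lt_left

theorem le_left {W : Subgroup G} (hW : IsPGroup p W)
    (hN : normalizer (((P1 : Subgroup G) ⊓ P2 : Subgroup G) : Set G) ≤ normalizer (W : Set G)) :
    W ≤ P1 := by
  set K := (P1 : Subgroup G) ⊓ normalizer (((P1 : Subgroup G) ⊓ P2 : Subgroup G) : Set G) with hK
  have h1 : IsPGroup p K := P1.2.to_le inf_le_left
  have h2 : K ≤ normalizer (W : Set G) := inf_le_right.trans hN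
  have h3 : IsPGroup p (W ⊔ K : Subgroup G) := hW.to_sup_of_normal_left' h1 h2
  obtain ⟨T, hT⟩ := h3.exists_le_sylow
  have h4 : T = P1 := by
    apply M.eq_of_lt
    refine lt_of_lt_of_le M.lt_inf (le_inf ?_ inf_le_left)
    exact le_sup_right.trans hT
  rw [← h4]
  exact le_sup_left.trans hT

theorem le_inf_of_normalizes {W : Subgroup G} (hW : IsPGroup p W)
    (hN : normalizer (((P1 : Subgroup G) ⊓ P2 : Subgroup G) : Set G) ≤ normalizer (W : Set G)) :
    W ≤ (P1 : Subgroup G) ⊓ P2 := by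
  refine le_inf (M.le_left hW hN) (M.symm.le_left hW ?_)
  rwa [inf_comm]

end MaxInt

end H72.AbSyl
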