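import Mathlib
import Cfsg.Agent.Lib.H72.AbSyl2

/-!
Groups in which every noncentral `p`-element has class size prime to `p` and commutes with no noncentral
`p'`-element: the Sylow `p`-subgroups are abelian.  Part 3: odd `p`, the contradiction.
-/

set_option autoImplicit false
set_option linter.unusedSectionVars false

open Subgroup
open H72.ClassSize H72.TwoLargest
open scoped Pointwise commutatorElement IsMulCommutative

namespace H72.AbSyl

variable {G : Type*} [Group G] [Finite G] {p : ℕ} [hp : Fact p.Prime]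

theorem orderOf_conj' {g x : G} (h : ∃ k, orderOf x = p ^ k) : ∃ k, orderOf (g * x * g⁻¹) = p ^ k := by
  obtain ⟨k, hk⟩ := h
  refine ⟨k, ?_⟩
  rw [← hk, ← MulAut.conj_apply]
  exact MulEquiv.orderOf_eq _ _

/-- every Sylow subgroup is centralized by a noncentral `p`-element -/
theorem Hyp.exists_noncentral (H : Hyp G p) {u : G} (hu : u ∉ center G) (huo : ∃ k, orderOf u = p ^ k)
    (P : Sylow p G) : ∃ a, a ∉ center G ∧ (∃ k, orderOf a = p ^ k) ∧
      (P : Subgroup G) ≤ centralizer ({a} : Set G) := by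
  obtain ⟨Q, hQ, -⟩ := H.exists_syl hu huo
  obtain ⟨g, hg⟩ := MulAction.exists_smul_eq G Q P
  refine ⟨g * u * g⁻¹, ?_, orderOf_conj' huo, ?_⟩
  · intro h
    apply hu
    have h2 := (inferInstance : (center G).Normal).conj_mem _ h g⁻¹
    have h3 : g⁻¹ * (g * u * g⁻¹) * g⁻¹⁻¹ = u := by group
    rwa [h3] at h2
  · intro y hy
    have hy' : y ∈ P := hy
    have h2 : g⁻¹ * y * g ∈ Q := by
      rw [mem_smul_iff g Q, hg]
      have : g * (g⁻¹ * y * g) * g⁻¹ = y := by group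
      rwa [this]
    have h3 := mem_cent.mp (hQ h2)
    apply mem_cent.mpr
    calc y * (g * u * g⁻¹) = g * ((g⁻¹ * y * g) * u) * g⁻¹ := by group
      _ = g * (u * (g⁻¹ * y * g)) * g⁻¹ := by rw [h3]
      _ = g * u * g⁻¹ * y := by group

/-- products of a `p`-element of `D` and a `p`-element normalizing the `p`-group `D` -/
theorem orderOf_mul_of_normalizes {D : Subgroup G} (hD : IsPGroup p D) {x : G}
    (hx : x ∈ normalizer (D : Set G)) (hxo : ∃ k, orderOf x = p ^ k) {y : G}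
    (hy : y ∈ (D ⊔ zpowers x : Subgroup G)) : ∃ k, orderOf y = p ^ k := by
  obtain ⟨k, hk⟩ := hxo
  have h1 : IsPGroup p (zpowers x) := IsPGroup.of_card (n := k) (by rw [Nat.card_zpowers, hk])
  have h2 : IsPGroup p (D ⊔ zpowers x : Subgroup G) :=
    hD.to_sup_of_normal_left' h1 (by rwa [zpowers_le])
  obtain ⟨j, hj⟩ := (IsPGroup.iff_orderOf.mp h2) ⟨y, hy⟩
  rw [Subgroup.orderOf_mk] at hj
  exact ⟨j, hj⟩

/-- a power computation in a group: `(v y)^n = (v · v^y ⋯) y^n` -/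
theorem prod_conj_pow {V : Subgroup G} [hV : IsMulCommutative V] (φ : normalizer (V : Set G) →* MulAut V)
    (hφ : ∀ (n : normalizer (V : Set G)) (v : V), ((φ n v : V) : G) = n * v * (n : G)⁻¹)
    (y : normalizer (V : Set G)) (v : V) (n : ℕ) :
    (((∏ i ∈ Finset.range n, (φ y) ^ i • v : V) : V) : G) * (y : G) ^ n = ((v : G) * y) ^ n := by
  induction n with
  | zero => simp
  | succ n ih =>
    rw [Finset.prod_range_succ, pow_succ ((v : G) * y), ← ih, ← map_pow, Subgroup.coe_mul]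
    have h1 : (((φ (y ^ n)) • v : V) : G) = (y : G) ^ n * v * ((y : G) ^ n)⁻¹ := by
      rw [MulAut.smul_def, hφ]
      simp
    rw [h1, pow_succ]
    group

section ctx

variable (H : Hyp G p) {P1 P2 : Sylow p G} (M : MaxInt P1 P2)
include H M

/-- the `p`-elements centralizing `D` lie in `D` -/
theorem mem_inf_of_cent {x : G}
    (hx : x ∈ centralizer (((P1 : Subgroup G) ⊓ P2 : Subgroup G) : Set G))
    (hxo : ∃ k, orderOf x = p ^ k) : x ∈ (P1 : Subgroup G) ⊓ P2 := by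
  set D : Subgroup G := (P1 : Subgroup G) ⊓ P2 with hD
  obtain ⟨d, hd1, hd2, hdn⟩ := M.nc
  have hdD : d ∈ D := Subgroup.mem_inf.mpr ⟨hd1, hd2⟩
  have hdo := orderOf_of_mem hd1
  obtain ⟨Q, hQ, hdQ⟩ := H.exists_syl hdn hdo
  have hCd : centralizer (D : Set G) ≤ centralizer ({d} : Set G) := by
    intro y hy
    exact mem_cent.mpr (mem_centralizer_iff.mp hy d hdD).symm
  have hW : ∀ y ∈ centralizer (D : Set G), (∃ k, orderOf y = p ^ k) → y ∈ Q := by
    intro y hy hyo
    exact H.mem_syl hdn hdo hQ (hCd hy) hyo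
  have h1 : normalizer (D : Set G) ≤ normalizer ((((Q : Subgroup G) ⊓ centralizer (D : Set G)) : Subgroup G) : Set G) := by
    have h2 : ∀ n ∈ normalizer (D : Set G), ∀ y ∈ (Q : Subgroup G) ⊓ centralizer (D : Set G),
        n * y * n⁻¹ ∈ (Q : Subgroup G) ⊓ centralizer (D : Set G) := by
      intro n hn y hy
      obtain ⟨hy1, hy2⟩ := Subgroup.mem_inf.mp hy
      have h3 : n * y * n⁻¹ ∈ centralizer (D : Set G) := by
        rw [mem_centralizer_iff]
        intro e he
        have h4 : n⁻¹ * e * n ∈ D := by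
          have h5 := (mem_normalizer_iff.mp ((normalizer (D : Set G)).inv_mem hn) e).mp he
          rwa [inv_inv] at h5
        have h6 := mem_centralizer_iff.mp hy2 _ h4
        calc e * (n * y * n⁻¹) = n * ((n⁻¹ * e * n) * y) * n⁻¹ := by group
          _ = n * (y * (n⁻¹ * e * n)) * n⁻¹ := by rw [h6]
          _ = n * y * n⁻¹ * e := by group
      exact Subgroup.mem_inf.mpr ⟨hW _ h3 (orderOf_conj' (orderOf_of_mem hy1)), h3⟩
    intro n hn
    rw [mem_normalizer_iff]
    intro y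
    refine ⟨h2 n hn y, fun h => ?_⟩
    have h3 := h2 n⁻¹ ((normalizer (D : Set G)).inv_mem hn) _ h
    have h4 : n⁻¹ * (n * y * n⁻¹) * n⁻¹⁻¹ = y := by group
    rwa [h4] at h3
  exact M.le_inf_of_normalizes (Q.2.to_le inf_le_left) h1 (Subgroup.mem_inf.mpr ⟨hW x hx hxo, hx⟩)

/-- the `p`-elements centralizing `V = Z(D)` lie in `D`, the `p'`-elements are central -/
theorem cent_V {x : G}
    (hx : x ∈ centralizer (((P1 : Subgroup G) ⊓ P2 ⊓ centralizer (((P1 : Subgroup G) ⊓ P2 : Subgroup G) : Set G) :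
      Subgroup G) : Set G)) :
    ((∃ k, orderOf x = p ^ k) → x ∈ (P1 : Subgroup G) ⊓ P2) ∧ (¬ p ∣ orderOf x → x ∈ center G) := by
  obtain ⟨d, hd1, hd2, hdn⟩ := M.nc
  have hdo := orderOf_of_mem hd1
  have key : ∀ (P : Sylow p G), (P1 : Subgroup G) ⊓ P2 ≤ P → ((∃ k, orderOf x = p ^ k) → x ∈ P) ∧
      (¬ p ∣ orderOf x → x ∈ center G) := by
    intro P hP
    obtain ⟨a, ha, hao, haP⟩ := H.exists_noncentral hdn hdo P
    have h1 : a ∈ centralizer (((P1 : Subgroup G) ⊓ P2 : Subgroup G) : Set G) := by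
      rw [mem_centralizer_iff]
      intro e he
      exact mem_cent.mp (haP (hP he))
    have h2 := mem_inf_of_cent H M h1 hao
    have h3 : x ∈ centralizer ({a} : Set G) := by
      apply mem_cent.mpr
      exact (mem_centralizer_iff.mp hx a (Subgroup.mem_inf.mpr ⟨h2, h1⟩)).symm
    exact ⟨fun h => H.mem_syl ha hao haP h3 h, fun h => H.h2 a ha hao x h3 h⟩
  exact ⟨fun h => Subgroup.mem_inf.mpr ⟨(key P1 inf_le_left).1 h, (key P2 inf_le_right).1 h⟩,
    (key P1 inf_le_left).2⟩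

/-- the fixed point argument -/
theorem nc {r : ℕ} [hr : Fact r.Prime] (hrp : r ≠ p) {f : G}
    (hf : f ∈ normalizer (((P1 : Subgroup G) ⊓ P2 : Subgroup G) : Set G)) (hfo : ∃ k, orderOf f = r ^ k)
    {x : G} (hx : x ∈ normalizer (((P1 : Subgroup G) ⊓ P2 : Subgroup G) : Set G))
    (hxo : ∃ k, orderOf x = p ^ k) (hxD : x ∉ (P1 : Subgroup G) ⊓ P2)
    (h : x⁻¹ * (f * x * f⁻¹) ∈ centralizer (((P1 : Subgroup G) ⊓ P2 ⊓
      centralizer (((P1 : Subgroup G) ⊓ P2 : Subgroup G) : Set G) : Subgroup G) : Set G)) : f ∈ center G := by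
  set D : Subgroup G := (P1 : Subgroup G) ⊓ P2 with hD
  have hDp : IsPGroup p D := P1.2.to_le inf_le_left
  obtain ⟨c1, c2, hc1, hc2, hc, hcc, hc1o, hc2o, -, -⟩ :=
    H71.Basic.exists_pPart (x⁻¹ * (f * x * f⁻¹)) (isOfFinOrder_of_finite _) p hp.out
  rw [← zpowers_le] at h
  have h1 : c1 ∈ D := (cent_V H M (h hc1)).1 hc1o
  have h2 : c2 ∈ center G := (cent_V H M (h hc2)).2 hc2o
  have h3 : c2 = 1 := by
    obtain ⟨k1, hk1⟩ := orderOf_mul_of_normalizes hDp hx hxo
      (y := x * c1) (mul_mem (le_sup_right (a := D) (mem_zpowers x)) (le_sup_left (b := zpowers x) h1))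
    obtain ⟨k2, hk2⟩ := orderOf_conj' (g := f) hxo
    have h4 : (x * c1) * c2 = f * x * f⁻¹ := by
      rw [mul_assoc, hc]; group
    have h5 : Commute (x * c1) c2 := mem_center_iff.mp h2 _
    have h6 : ((x * c1) * c2) ^ p ^ (k1 + k2) = 1 := by
      rw [h4, pow_add, mul_comm, pow_mul, ← hk2, pow_orderOf_eq_one, one_pow]
    rw [h5.mul_pow] at h6
    have h7 : (x * c1) ^ p ^ (k1 + k2) = 1 := by
      rw [pow_add, pow_mul, ← hk1, pow_orderOf_eq_one, one_pow]
    rw [h7, one_mul] at h6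
    have h8 := orderOf_dvd_of_pow_eq_one h6
    obtain ⟨j, -, hj⟩ := (Nat.dvd_prime_pow hp.out).mp h8
    rcases Nat.eq_zero_or_pos j with h0 | h0
    · rw [h0, pow_zero] at hj
      exact orderOf_eq_one_iff.mp hj
    · exfalso
      apply hc2o
      rw [hj]
      exact dvd_pow_self p (by omega)
  have h4 : x⁻¹ * (f * x * f⁻¹) ∈ D := by rw [← hc, h3, mul_one]; exact h1
  -- the subgroup of elements of `N` stabilizing the coset `xD`
  have hconj : ∀ n ∈ normalizer (D : Set G), ∀ e ∈ D, n * e * n⁻¹ ∈ D := fun n hn e he =>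
    (mem_normalizer_iff.mp hn e).mp he
  let S : Subgroup G :=
    { carrier := {g | g ∈ normalizer (D : Set G) ∧ x⁻¹ * (g * x * g⁻¹) ∈ D}
      one_mem' := ⟨one_mem _, by simp⟩
      mul_mem' := by
        rintro g1 g2 ⟨h5, h6⟩ ⟨h7, h8⟩
        refine ⟨mul_mem h5 h7, ?_⟩
        have e : x⁻¹ * (g1 * g2 * x * (g1 * g2)⁻¹) =
            (x⁻¹ * (g1 * x * g1⁻¹)) * (g1 * (x⁻¹ * (g2 * x * g2⁻¹)) * g1⁻¹) := by group
        rw [e]
        exact mul_mem h6 (hconj g1 h5 _ h8)
      inv_mem' := by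
        rintro g ⟨h5, h6⟩
        refine ⟨inv_mem h5, ?_⟩
        have e : x⁻¹ * (g⁻¹ * x * g⁻¹⁻¹) = g⁻¹ * (x⁻¹ * (g * x * g⁻¹))⁻¹ * g⁻¹⁻¹ := by group
        rw [e]
        exact hconj _ (inv_mem h5) _ (inv_mem h6) }
  have hS : zpowers f ≤ S := by
    rw [zpowers_le]
    exact ⟨hf, h4⟩
  have hact : ∀ g ∈ zpowers f, ∀ y, x⁻¹ * y ∈ D → x⁻¹ * (g * y * g⁻¹) ∈ D := by
    intro g hg y hy
    obtain ⟨h5, h6⟩ := hS hg
    have e : x⁻¹ * (g * y * g⁻¹) = (x⁻¹ * (g * x * g⁻¹)) * (g * (x⁻¹ * y) * g⁻¹) := by group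
    rw [e]
    exact mul_mem h6 (hconj g h5 _ hy)
  letI act : MulAction (zpowers f) {y : G // x⁻¹ * y ∈ D} :=
    { smul := fun g y => ⟨g * y * (g : G)⁻¹, hact g g.2 y y.2⟩
      one_smul := by
        rintro ⟨y, hy⟩
        apply Subtype.ext
        show (1 : G) * y * (1 : G)⁻¹ = y
        group
      mul_smul := by
        rintro g1 g2 ⟨y, hy⟩
        apply Subtype.ext
        show ((g1 : G) * g2) * y * ((g1 : G) * g2)⁻¹ = g1 * (g2 * y * (g2 : G)⁻¹) * (g1 : G)⁻¹
        group }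
  obtain ⟨k, hk⟩ := hfo
  have h5 : IsPGroup r (zpowers f) := IsPGroup.of_card (n := k) (by rw [Nat.card_zpowers, hk])
  have h6 : Nat.card {y : G // x⁻¹ * y ∈ D} = Nat.card D := by
    apply Nat.card_congr
    exact
      { toFun := fun y => ⟨x⁻¹ * y, y.2⟩
        invFun := fun d => ⟨x * d, by rw [inv_mul_cancel_left]; exact d.2⟩
        left_inv := fun y => Subtype.ext (by simp)
        right_inv := fun d => Subtype.ext (by simp) }
  have h7 : ¬ r ∣ Nat.card {y : G // x⁻¹ * y ∈ D} := by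
    rw [h6]
    obtain ⟨j, hj⟩ := IsPGroup.iff_card.mp hDp
    rw [hj]
    intro h8
    exact hrp ((Nat.prime_dvd_prime_iff_eq hr.out hp.out).mp (hr.out.dvd_of_dvd_pow h8))
  obtain ⟨⟨y, hy⟩, hyf⟩ := h5.nonempty_fixed_point_of_prime_not_dvd_card {y : G // x⁻¹ * y ∈ D} h7
  have h8 : f * y * f⁻¹ = y := congrArg Subtype.val (hyf ⟨f, mem_zpowers f⟩)
  have h9 : ∃ k, orderOf y = p ^ k := by
    apply orderOf_mul_of_normalizes hDp hx hxo
    have e : y = x * (x⁻¹ * y) := by group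
    rw [e]
    exact mul_mem (le_sup_right (a := D) (mem_zpowers x)) (le_sup_left (b := zpowers x) hy)
  have h10 : y ∉ D := by
    intro h11
    apply hxD
    have e : x = y * (x⁻¹ * y)⁻¹ := by group
    rw [e]
    exact mul_mem h11 (inv_mem hy)
  have h11 : y ∉ center G := by
    intro h12
    apply h10
    obtain ⟨j, hj⟩ := h9
    exact Subgroup.mem_inf.mpr ⟨mem_of_central P1 hj h12, mem_of_central P2 hj h12⟩
  refine H.h2 y h11 h9 f ?_ ?_
  · rw [mem_cent]
    calc f * y = f * y * f⁻¹ * f := by group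
      _ = y * f := by rw [h8]
  · rw [hk]
    intro h12
    exact hrp ((Nat.prime_dvd_prime_iff_eq hp.out hr.out).mp (hp.out.dvd_of_dvd_pow h12)).symm

/-- no involution in `N/C(V)` when `p` is odd -/
theorem noInv (hp2 : p ≠ 2) {t : G}
    (ht : t ∈ normalizer (((P1 : Subgroup G) ⊓ P2 : Subgroup G) : Set G)) (hto : ∃ k, orderOf t = 2 ^ k)
    (ht2 : t ^ 2 ∈ centralizer (((P1 : Subgroup G) ⊓ P2 ⊓
      centralizer (((P1 : Subgroup G) ⊓ P2 : Subgroup G) : Set G) : Subgroup G) : Set G)) :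
    t ∈ centralizer (((P1 : Subgroup G) ⊓ P2 ⊓
      centralizer (((P1 : Subgroup G) ⊓ P2 : Subgroup G) : Set G) : Subgroup G) : Set G) := by
  set D : Subgroup G := (P1 : Subgroup G) ⊓ P2 with hD
  set V : Subgroup G := D ⊓ centralizer (D : Set G) with hV
  by_contra htV
  have hpo : ¬ p ∣ orderOf t := by
    obtain ⟨k, hk⟩ := hto
    rw [hk]
    intro h
    exact hp2 ((Nat.prime_dvd_prime_iff_eq hp.out Nat.prime_two).mp (hp.out.dvd_of_dvd_pow h))
  have htn : t ∉ center G := by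
    intro h
    apply htV
    rw [mem_centralizer_iff]
    intro v _
    exact mem_center_iff.mp h v
  have hNV : ∀ n ∈ normalizer (D : Set G), ∀ v ∈ V, n * v * n⁻¹ ∈ V := by
    intro n hn v hv
    obtain ⟨h1, h2⟩ := Subgroup.mem_inf.mp hv
    refine Subgroup.mem_inf.mpr ⟨(mem_normalizer_iff.mp hn v).mp h1, ?_⟩
    rw [mem_centralizer_iff]
    intro e he
    have h4 : n⁻¹ * e * n ∈ D := by
      have h5 := (mem_normalizer_iff.mp ((normalizer (D : Set G)).inv_mem hn) e).mp he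
      rwa [inv_inv] at h5
    have h6 := mem_centralizer_iff.mp h2 _ h4
    calc e * (n * v * n⁻¹) = n * ((n⁻¹ * e * n) * v) * n⁻¹ := by group
      _ = n * (v * (n⁻¹ * e * n)) * n⁻¹ := by rw [h6]
      _ = n * v * n⁻¹ * e := by group
  have hVc : ∀ v ∈ V, ∀ w ∈ V, v * w = w * v := by
    intro v hv w hw
    exact mem_centralizer_iff.mp (Subgroup.mem_inf.mp hw).2 v (Subgroup.mem_inf.mp hv).1
  -- `t` inverts `V` modulo the centre
  have hinv : ∀ v ∈ V, v * (t * v * t⁻¹) ∈ center G := by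
    intro v hv
    by_contra hc
    apply htn
    have hwV : v * (t * v * t⁻¹) ∈ V := mul_mem hv (hNV t ht v hv)
    refine H.h2 _ hc (orderOf_of_mem (P := P1) (Subgroup.mem_inf.mp (Subgroup.mem_inf.mp hwV).1).1) t ?_ hpo
    rw [mem_cent]
    have h1 : t ^ 2 * v = v * t ^ 2 := (mem_centralizer_iff.mp ht2 v hv).symm
    have h2 : t * (t * v * t⁻¹) * t⁻¹ = v := by
      calc t * (t * v * t⁻¹) * t⁻¹ = (t ^ 2 * v) * (t ^ 2)⁻¹ := by rw [pow_two]; group
        _ = v := by rw [h1]; group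
    calc t * (v * (t * v * t⁻¹)) = (t * v * t⁻¹) * (t * (t * v * t⁻¹) * t⁻¹) * t := by group
      _ = (t * v * t⁻¹) * v * t := by rw [h2]
      _ = v * (t * v * t⁻¹) * t := by rw [hVc _ (hNV t ht v hv) v hv]
  -- a `p`-element of `N` outside `D`
  obtain ⟨x, hx, hxD⟩ := SetLike.exists_of_lt M.lt_inf
  obtain ⟨hx1, hx2⟩ := Subgroup.mem_inf.mp hx
  apply htn
  haveI : Fact (Nat.Prime 2) := ⟨Nat.prime_two⟩
  apply nc H M (r := 2) hp2.symm ht hto hx2 (orderOf_of_mem hx1) hxD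
  rw [mem_centralizer_iff]
  intro v hv
  symm
  apply H.comm_of_center (orderOf_of_mem (P := P1) (Subgroup.mem_inf.mp (Subgroup.mem_inf.mp hv).1).1)
  rw [← QuotientGroup.eq_one_iff]
  set π : G →* G ⧸ center G := QuotientGroup.mk' (center G) with hπ
  have hbar : ∀ w ∈ V, π t * π w * (π t)⁻¹ = (π w)⁻¹ := by
    intro w hw
    have h1 : π (w * (t * w * t⁻¹)) = 1 := (QuotientGroup.eq_one_iff _).mpr (hinv w hw)
    rw [map_mul, map_mul, map_mul, map_inv] at h1
    exact eq_inv_of_mul_eq_one_right h1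
  have h3 : (π t)⁻¹ * π v * π t = (π v)⁻¹ := by
    have h4 := hbar v⁻¹ (V.inv_mem hv)
    rw [map_inv, inv_inv] at h4
    calc (π t)⁻¹ * π v * π t = (π t)⁻¹ * (π t * (π v)⁻¹ * (π t)⁻¹) * π t := by rw [h4]
      _ = (π v)⁻¹ := by group
  have h5 : π t * (π x * π v * (π x)⁻¹)⁻¹ * (π t)⁻¹ = π x * π v * (π x)⁻¹ := by
    have h6 := hbar _ (V.inv_mem (hNV x hx2 v hv))
    rw [map_inv, map_mul, map_mul, map_inv, inv_inv] at h6
    exact h6
  show π (x⁻¹ * (t * x * t⁻¹) * v * (x⁻¹ * (t * x * t⁻¹))⁻¹ * v⁻¹) = 1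
  have h7 : π (x⁻¹ * (t * x * t⁻¹) * v * (x⁻¹ * (t * x * t⁻¹))⁻¹ * v⁻¹) =
      (π x)⁻¹ * (π t * (π x * ((π t)⁻¹ * π v * π t) * (π x)⁻¹) * (π t)⁻¹) * π x * (π v)⁻¹ := by
    simp only [map_mul, map_inv]
    group
  rw [h7, h3]
  have h8 : π x * (π v)⁻¹ * (π x)⁻¹ = (π x * π v * (π x)⁻¹)⁻¹ := by group
  rw [h8, h5]
  group

end ctx

theorem eq_one_of_central_mul {y c z : G} (h : y * c = z) (hy : ∃ k, orderOf y = p ^ k)
    (hz : ∃ k, orderOf z = p ^ k) (hc : c ∈ center G) (hco : ¬ p ∣ orderOf c) : c = 1 := by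
  obtain ⟨k1, hk1⟩ := hy
  obtain ⟨k2, hk2⟩ := hz
  have h5 : Commute y c := mem_center_iff.mp hc _
  have h6 : (y * c) ^ p ^ (k1 + k2) = 1 := by
    rw [h, pow_add, mul_comm, pow_mul, ← hk2, pow_orderOf_eq_one, one_pow]
  rw [h5.mul_pow] at h6
  have h7 : y ^ p ^ (k1 + k2) = 1 := by
    rw [pow_add, pow_mul, ← hk1, pow_orderOf_eq_one, one_pow]
  rw [h7, one_mul] at h6
  have h8 := orderOf_dvd_of_pow_eq_one h6
  obtain ⟨j, -, hj⟩ := (Nat.dvd_prime_pow hp.out).mp h8
  rcases Nat.eq_zero_or_pos j with h0 | h0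
  · rw [h0, pow_zero] at hj
    exact orderOf_eq_one_iff.mp hj
  · exfalso
    apply hco
    rw [hj]
    exact dvd_pow_self p (by omega)

theorem MaxInt.sylow_maximal {P1 P2 : Sylow p G} (M : MaxInt P1 P2) :
    ∃ S : Sylow p (normalizer (((P1 : Subgroup G) ⊓ P2 : Subgroup G) : Set G)),
      (S : Subgroup (normalizer (((P1 : Subgroup G) ⊓ P2 : Subgroup G) : Set G))) =
        (P1 : Subgroup G).subgroupOf (normalizer (((P1 : Subgroup G) ⊓ P2 : Subgroup G) : Set G)) := by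
  set N := normalizer (((P1 : Subgroup G) ⊓ P2 : Subgroup G) : Set G) with hN
  refine ⟨⟨(P1 : Subgroup G).subgroupOf N, ?_, ?_⟩, rfl⟩
  · exact P1.2.comap_of_injective N.subtype N.subtype_injective
  · intro Q hQ hle
    refine le_antisymm ?_ hle
    have h1 : IsPGroup p (Q.map N.subtype) := hQ.map _
    obtain ⟨T, hT⟩ := h1.exists_le_sylow
    have h2 : T = P1 := by
      apply M.eq_of_lt
      refine lt_of_lt_of_le M.lt_inf (le_inf ?_ inf_le_left)
      intro y hy
      obtain ⟨hy1, hy2⟩ := Subgroup.mem_inf.mp hy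
      apply hT
      exact ⟨⟨y, hy2⟩, hle (by rw [mem_subgroupOf]; exact hy1), rfl⟩
    intro y hy
    rw [mem_subgroupOf, ← h2]
    exact hT ⟨y, hy, rfl⟩

theorem contra (H : Hyp G p) {P1 P2 : Sylow p G} (M : MaxInt P1 P2) (hp2 : p ≠ 2)
    (hpow : ∀ v : G, (∃ k, orderOf v = p ^ k) → v ^ p ∈ center G) : False := by
  classical
  set D : Subgroup G := (P1 : Subgroup G) ⊓ P2 with hD
  set V : Subgroup G := D ⊓ centralizer (D : Set G) with hV
  have hDp : IsPGroup p D := P1.2.to_le inf_le_left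
  have hVp : ∀ v ∈ V, ∃ k, orderOf v = p ^ k := fun v hv =>
    orderOf_of_mem (P := P1) (Subgroup.mem_inf.mp (Subgroup.mem_inf.mp hv).1).1
  have hDV : ∀ e ∈ D, e ∈ centralizer (V : Set G) := by
    intro e he
    rw [mem_centralizer_iff]
    intro v hv
    exact (mem_centralizer_iff.mp (Subgroup.mem_inf.mp hv).2 e he).symm
  have hNV' : ∀ n ∈ normalizer (D : Set G), ∀ v ∈ V, n * v * n⁻¹ ∈ V := by
    intro n hn v hv
    obtain ⟨h1, h2⟩ := Subgroup.mem_inf.mp hv
    refine Subgroup.mem_inf.mpr ⟨(mem_normalizer_iff.mp hn v).mp h1, ?_⟩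
    rw [mem_centralizer_iff]
    intro e he
    have h4 : n⁻¹ * e * n ∈ D := by
      have h5 := (mem_normalizer_iff.mp ((normalizer (D : Set G)).inv_mem hn) e).mp he
      rwa [inv_inv] at h5
    have h6 := mem_centralizer_iff.mp h2 _ h4
    calc e * (n * v * n⁻¹) = n * ((n⁻¹ * e * n) * v) * n⁻¹ := by group
      _ = n * (v * (n⁻¹ * e * n)) * n⁻¹ := by rw [h6]
      _ = n * v * n⁻¹ * e := by group
  have hNV : normalizer (D : Set G) ≤ normalizer (V : Set G) := by
    intro n hn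
    rw [mem_normalizer_iff]
    intro y
    refine ⟨hNV' n hn y, fun h => ?_⟩
    have h3 := hNV' n⁻¹ ((normalizer (D : Set G)).inv_mem hn) _ h
    have h4 : n⁻¹ * (n * y * n⁻¹) * n⁻¹⁻¹ = y := by group
    rwa [h4] at h3
  haveI hVc : IsMulCommutative V := by
    refine IsMulCommutative.of_comm ?_
    rintro ⟨v, hv⟩ ⟨w, hw⟩
    exact Subtype.ext (mem_centralizer_iff.mp (Subgroup.mem_inf.mp hw).2 v (Subgroup.mem_inf.mp hv).1)
  set φ0 : normalizer (V : Set G) →* MulAut V := V.normalizerMonoidHom with hφ0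
  have hφ0' : ∀ (n : normalizer (V : Set G)) (v : V), ((φ0 n v : V) : G) = n * v * (n : G)⁻¹ :=
    fun n v => rfl
  set φ : normalizer (D : Set G) →* MulAut V := φ0.comp (inclusion hNV) with hφ
  have hφv : ∀ (n : normalizer (D : Set G)) (v : V), ((φ n v : V) : G) = n * v * (n : G)⁻¹ :=
    fun n v => rfl
  have hker : ∀ n : normalizer (D : Set G), φ n = 1 ↔ (n : G) ∈ centralizer (V : Set G) := by
    intro n
    rw [mem_centralizer_iff]
    constructor
    · intro h v hv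
      have h1 := hφv n ⟨v, hv⟩
      rw [h] at h1
      have h2 : v = (n : G) * v * (n : G)⁻¹ := h1
      calc v * (n : G) = (n : G) * v * (n : G)⁻¹ * n := by rw [← h2]
        _ = (n : G) * v := by group
    · intro h
      ext v
      rw [hφv, ← h v v.2]
      simp
  set Γ := φ.range with hΓ
  set ψ : normalizer (D : Set G) →* Γ := φ.rangeRestrict with hψ
  have hψs : Function.Surjective ψ := φ.rangeRestrict_surjective
  have hψk : ∀ n : normalizer (D : Set G), ψ n = 1 ↔ (n : G) ∈ centralizer (V : Set G) := by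
    intro n
    rw [← hker]
    exact ⟨fun h => congrArg Subtype.val h, fun h => Subtype.ext h⟩
  -- odd order
  have hodd : Odd (Nat.card Γ) := by
    rw [← Nat.not_even_iff_odd, even_iff_two_dvd]
    intro h2
    haveI : Fact (Nat.Prime 2) := ⟨Nat.prime_two⟩
    obtain ⟨γ, hγ⟩ := exists_prime_orderOf_dvd_card' 2 h2
    obtain ⟨n, rfl⟩ := hψs γ
    obtain ⟨f, hf, hfo⟩ := lift_elt ψ Nat.prime_two (n := n) ⟨1, by rw [hγ, pow_one]⟩
    have hfo' : ∃ k, orderOf (f : G) = 2 ^ k := by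
      obtain ⟨k, hk⟩ := hfo
      exact ⟨k, by rw [Subgroup.orderOf_coe]; exact hk⟩
    have h3 : (f : G) ^ 2 ∈ centralizer (V : Set G) := by
      rw [← Subgroup.coe_pow, ← hψk, map_pow, hf, ← hγ, pow_orderOf_eq_one]
    have h4 := noInv H M hp2 f.2 hfo' h3
    have h5 := (hψk f).mpr h4
    rw [hf] at h5
    rw [h5, orderOf_one] at hγ
    omega
  have hsolv : Group.IsSolvable Γ := Cfsg.Agent.S0205.result hodd
  obtain ⟨x, hx, hxD⟩ := SetLike.exists_of_lt M.lt_inf
  obtain ⟨hx1, hx2⟩ := Subgroup.mem_inf.mp hx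
  have hxo := orderOf_of_mem hx1
  have hxV : x ∉ centralizer (V : Set G) := fun h => hxD ((cent_V H M h).1 hxo)
  haveI : Nontrivial Γ := ⟨ψ ⟨x, hx2⟩, 1, fun h => hxV ((hψk _).mp h)⟩
  obtain ⟨r, hr, Q, hQn, hQb, hQr⟩ := exists_normal_pgroup hsolv
  by_cases hrp : r = p
  · subst hrp
    obtain ⟨S1, hS1⟩ := M.sylow_maximal
    obtain ⟨S2, hS2⟩ : ∃ S : Sylow r (normalizer (D : Set G)),
      (S : Subgroup (normalizer (D : Set G))) = (P2 : Subgroup G).subgroupOf (normalizer (D : Set G)) := by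
      have h1 := M.symm.sylow_maximal
      rwa [inf_comm (P2 : Subgroup G)] at h1
    apply hQb
    rw [eq_bot_iff]
    intro γ hγ
    have h1 : γ ∈ ((S1.mapSurjective hψs : Sylow r Γ) : Subgroup Γ) :=
      hQr.le_sylow_of_normal _ hγ
    have h2 : γ ∈ ((S2.mapSurjective hψs : Sylow r Γ) : Subgroup Γ) :=
      hQr.le_sylow_of_normal _ hγ
    rw [Sylow.coe_mapSurjective] at h1 h2
    obtain ⟨s1, hs1, hs1γ⟩ := h1
    obtain ⟨s2, hs2, hs2γ⟩ := h2
    rw [SetLike.mem_coe, hS1, mem_subgroupOf] at hs1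
    rw [SetLike.mem_coe, hS2, mem_subgroupOf] at hs2
    have h3 : ψ (s2⁻¹ * s1) = 1 := by
      rw [map_mul, map_inv, hs1γ, hs2γ, inv_mul_cancel]
    have h4 := (hψk _).mp h3
    obtain ⟨c1, c2, hc1, hc2, hc, hcc, hc1o, hc2o, -, -⟩ :=
      H71.Basic.exists_pPart ((s2⁻¹ * s1 : normalizer (D : Set G)) : G) (isOfFinOrder_of_finite _) r hp.out
    rw [← zpowers_le] at h4
    have h5 : c1 ∈ D := (cent_V H M (h4 hc1)).1 hc1o
    have h6 : c2 ∈ center G := (cent_V H M (h4 hc2)).2 hc2o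
    have h7 : ((s2 : G) * c1) * c2 = s1 := by
      rw [mul_assoc, hc, Subgroup.coe_mul, Subgroup.coe_inv]
      group
    have h8 : c2 = 1 := by
      refine eq_one_of_central_mul h7 ?_ (orderOf_of_mem hs1) h6 hc2o
      exact orderOf_of_mem (P := P2) (mul_mem hs2 (Subgroup.mem_inf.mp h5).2)
    have h9 : (s1 : G) ∈ D := by
      refine Subgroup.mem_inf.mpr ⟨hs1, ?_⟩
      rw [← h7, h8, mul_one]
      exact mul_mem hs2 (Subgroup.mem_inf.mp h5).2
    rw [Subgroup.mem_bot, ← hs1γ]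
    exact (hψk _).mpr (hDV _ h9)
  · set A0 : Subgroup V := (center G).subgroupOf V with hA0
    have hr' : r.Prime := hr.out
    have hsm : ∀ (n : normalizer (D : Set G)) (v : V), ((ψ n • v : V) : G) = n * v * (n : G)⁻¹ :=
      fun n v => rfl
    -- lifting elements of `Q`
    have hlift : ∀ q ∈ Q, ∃ f : normalizer (D : Set G), ψ f = q ∧ ∃ k, orderOf (f : G) = r ^ k := by
      intro q hq
      obtain ⟨n, rfl⟩ := hψs q
      obtain ⟨j, hj⟩ := (IsPGroup.iff_orderOf.mp hQr) ⟨_, hq⟩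
      rw [Subgroup.orderOf_mk] at hj
      obtain ⟨f, hf, k, hk⟩ := lift_elt ψ hr' (n := n) ⟨j, hj⟩
      exact ⟨f, hf, k, by rw [Subgroup.orderOf_coe]; exact hk⟩
    have hxp : x ^ p ∈ center G := hpow x hxo
    have key : ∀ v : V, v ^ Nat.card Q ∈ A0 := by
      intro v
      refine frobNorm hp.out A0 ?_ Q hQn (ψ ⟨x, hx2⟩) ?_ ?_ ?_ ?_ v
      · intro γ a ha
        obtain ⟨n, rfl⟩ := hψs γ
        rw [hA0, mem_subgroupOf] at ha ⊢
        rw [hsm]
        exact (inferInstance : (center G).Normal).conj_mem _ ha _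
      · rw [← map_pow, hψk, Subgroup.coe_pow]
        rw [mem_centralizer_iff]
        intro w _
        exact mem_center_iff.mp hxp w
      · intro q hq hxq
        obtain ⟨f, rfl, hfo⟩ := hlift q hq
        have h1 : ψ ((⟨x, hx2⟩ : normalizer (D : Set G))⁻¹ * (f * ⟨x, hx2⟩ * f⁻¹)) = 1 := by
          rw [map_mul, map_mul, map_mul, map_inv, map_inv, ← hxq]
          group
        have h2 := (hψk _).mp h1
        have h3 := nc H M hrp f.2 hfo hx2 hxo hxD h2
        rw [hψk, mem_centralizer_iff]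
        intro w _
        exact mem_center_iff.mp h3 w
      · intro q hq w
        obtain ⟨f, rfl, -⟩ := hlift q hq
        set y : normalizer (D : Set G) := f * ⟨x, hx2⟩ * f⁻¹ with hy
        have hyo : ∃ k, orderOf (y : G) = p ^ k := orderOf_conj' (g := (f : G)) hxo
        have h1 := prod_conj_pow φ0 hφ0' (inclusion hNV y) w p
        have h2 : (((w : G) * y)) ^ p ∈ center G := by
          apply hpow
          apply orderOf_mul_of_normalizes hDp y.2 hyo
          exact mul_mem (le_sup_left (b := zpowers (y : G)) (Subgroup.mem_inf.mp w.2).1)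
            (le_sup_right (a := D) (mem_zpowers (y : G)))
        have h3 : (y : G) ^ p ∈ center G := hpow _ hyo
        rw [hA0, mem_subgroupOf]
        have h4 : (((∏ i ∈ Finset.range p, ((ψ f * ψ ⟨x, hx2⟩ * (ψ f)⁻¹) ^ i) • w : V) : V) : G) =
            ((w : G) * y) ^ p * ((y : G) ^ p)⁻¹ := by
          have h5 : ((inclusion hNV y : normalizer (V : Set G)) : G) = y := rfl
          rw [h5] at h1
          rw [← h1, mul_inv_cancel_right]
          congr 1
          have h6 : ψ f * ψ ⟨x, hx2⟩ * (ψ f)⁻¹ = ψ y := by rw [hy, map_mul, map_mul, map_inv]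
          rw [h6]
          apply Finset.prod_congr rfl
          intro i _
          show (((ψ y) ^ i : Γ) : MulAut V) • w = _
          rw [Subgroup.coe_pow]
          rfl
        rw [h4]
        exact mul_mem h2 (inv_mem h3)
      · intro w hw
        by_contra hwn
        rw [hA0, mem_subgroupOf] at hwn
        apply hQb
        rw [eq_bot_iff]
        intro q hq
        obtain ⟨f, rfl, hfo⟩ := hlift q hq
        have h1 := congrArg Subtype.val (hw _ hq)
        rw [hsm] at h1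
        have h2 : (f : G) ∈ centralizer ({(w : G)} : Set G) := by
          rw [mem_cent]
          calc (f : G) * w = f * w * (f : G)⁻¹ * f := by group
            _ = w * f := by rw [h1]
        have h3 : ¬ p ∣ orderOf (f : G) := by
          obtain ⟨k, hk⟩ := hfo
          rw [hk]
          intro h
          exact hrp ((Nat.prime_dvd_prime_iff_eq hp.out hr').mp (hp.out.dvd_of_dvd_pow h)).symm
        have h4 := H.h2 _ hwn (hVp _ w.2) _ h2 h3
        rw [Subgroup.mem_bot, hψk, mem_centralizer_iff]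
        intro w _
        exact mem_center_iff.mp h4 w
    -- hence `V` is central
    obtain ⟨d, hd1, hd2, hdn⟩ := M.nc
    obtain ⟨a, ha, hao, haP⟩ := H.exists_noncentral hdn (orderOf_of_mem hd1) P1
    have h1 : a ∈ centralizer (D : Set G) := by
      rw [mem_centralizer_iff]
      intro e he
      exact mem_cent.mp (haP (Subgroup.mem_inf.mp he).1)
    have h2 : a ∈ V := Subgroup.mem_inf.mpr ⟨mem_inf_of_cent H M h1 hao, h1⟩
    have h3 := key ⟨a, h2⟩
    rw [hA0, mem_subgroupOf] at h3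
    have h4 : a ^ Nat.card Q ∈ center G := h3
    obtain ⟨j, hj⟩ := IsPGroup.iff_card.mp hQr
    obtain ⟨k, hk⟩ := hao
    apply ha
    have h5 : Nat.Coprime (r ^ j) (p ^ k) :=
      Nat.Coprime.pow _ _ ((Nat.coprime_primes hr' hp.out).mpr hrp)
    have h9 := Nat.gcd_eq_gcd_ab (r ^ j) (p ^ k)
    rw [h5] at h9
    have h10 : a = (a ^ (r ^ j)) ^ (Nat.gcdA (r ^ j) (p ^ k)) *
        ((a ^ (p ^ k)) ^ (Nat.gcdB (r ^ j) (p ^ k))) := by
      rw [← zpow_natCast, ← zpow_natCast, ← zpow_mul, ← zpow_mul, ← zpow_add, ← h9]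
      simp
    rw [h10, ← hk, pow_orderOf_eq_one, one_zpow, mul_one, ← hj]
    exact zpow_mem h4 _

/-- **Main theorem**: the Sylow `p`-subgroups are abelian -/
theorem Hyp.abelian (H : Hyp G p) (P : Sylow p G) : ∀ x ∈ P, ∀ y ∈ P, x * y = y * x := by
  by_cases hp2 : p = 2
  · exact H.abelian_two hp2 P
  · by_contra hP
    obtain ⟨P1, P2, M⟩ := H.exists_maxInt hP
    exact contra H M hp2 (fun v hv => H.pow_mem_center hP hv)

end H72.AbSyl
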