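import Mathlib
import Cfsg.Agent.Lib.H72.AbSyl3

/-!
Finite groups with the class sizes of `PSL₂(q)`.  Part 1: the numbers, and the centralizers of `p`-elements.
-/

set_option autoImplicit false
set_option linter.unusedSectionVars false

open Subgroup
open H72.ClassSize H72.TwoLargest
open scoped Pointwise

namespace H72.Cls

/-- the numbers: `q = s + 1 = p ^ f`, `d = gcd(2, q - 1)`, `n1 = (q² - 1)/d`, `n0 = q(q ± 1)/2` -/
structure Num (p s d n1 n0 : ℕ) : Prop where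
  hp : p.Prime
  hq : ∃ f, s + 1 = p ^ f
  hd : (p = 2 ∧ d = 1 ∧ 3 ≤ s) ∨ (p ≠ 2 ∧ d = 2 ∧ 6 ≤ s)
  hn1 : d * n1 = s * (s + 2)
  hn0 : p ≠ 2 → (s % 4 = 0 ∧ 2 * n0 = (s + 1) * (s + 2)) ∨ (s % 4 = 2 ∧ 2 * n0 = (s + 1) * s)

/-- the possible class sizes -/
def InL (p s n1 n0 n : ℕ) : Prop :=
  n = 1 ∨ n = n1 ∨ n = (s + 1) * s ∨ n = (s + 1) * (s + 2) ∨ (p ≠ 2 ∧ n = n0)

namespace Num

variable {p s d n1 n0 : ℕ} (N : Num p s d n1 n0)
include N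

theorem s3 : 3 ≤ s := by
  rcases N.hd with h | h <;> omega

theorem d_pos : 0 < d := by
  rcases N.hd with h | h <;> omega

theorem d_le : d ≤ 2 := by
  rcases N.hd with h | h <;> omega

theorem p_dvd_q : p ∣ s + 1 := by
  obtain ⟨f, hf⟩ := N.hq
  rw [hf]
  apply dvd_pow_self
  rintro rfl
  have := N.s3
  rw [pow_zero] at hf
  omega

theorem p_not_dvd_s : ¬ p ∣ s := by
  intro h
  have h1 := (Nat.dvd_add_right h).mp N.p_dvd_q
  exact N.hp.one_lt.ne' (Nat.dvd_one.mp h1)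

theorem p_not_dvd_n1 : ¬ p ∣ n1 := by
  intro h
  have h1 : p ∣ s * (s + 2) := by rw [← N.hn1]; exact h.mul_left d
  rcases (N.hp.dvd_mul).mp h1 with h2 | h2
  · exact N.p_not_dvd_s h2
  · have h3 : p ∣ 1 := by
      have h4 : s + 2 = (s + 1) + 1 := rfl
      rw [h4] at h2
      exact (Nat.dvd_add_right N.p_dvd_q).mp h2
    exact N.hp.one_lt.ne' (Nat.dvd_one.mp h3)

theorem coprime_q_n1 : Nat.Coprime (s + 1) n1 := by
  obtain ⟨f, hf⟩ := N.hq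
  rw [hf]
  exact Nat.Coprime.pow_left _ ((Nat.Prime.coprime_iff_not_dvd N.hp).mpr N.p_not_dvd_n1)

theorem n1_gt : s + 1 < n1 := by
  have h1 := N.hn1
  have h2 := N.hd
  rcases h2 with ⟨-, hd, hs⟩ | ⟨-, hd, hs⟩
  · subst hd
    nlinarith
  · subst hd
    nlinarith

theorem p_dvd_n0 (hp2 : p ≠ 2) : p ∣ n0 := by
  have h1 : p ∣ 2 * n0 := by
    rcases N.hn0 hp2 with ⟨-, h⟩ | ⟨-, h⟩ <;> rw [h] <;> exact N.p_dvd_q.mul_right _
  rcases (N.hp.dvd_mul).mp h1 with h2 | h2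
  · exact absurd ((Nat.prime_dvd_prime_iff_eq N.hp Nat.prime_two).mp h2) hp2
  · exact h2

theorem q_dvd_n0 (hp2 : p ≠ 2) : s + 1 ∣ n0 := by
  have h1 : s + 1 ∣ 2 * n0 := by
    rcases N.hn0 hp2 with ⟨-, h⟩ | ⟨-, h⟩ <;> rw [h] <;> exact dvd_mul_right _ _
  apply Nat.Coprime.dvd_of_dvd_mul_left _ h1
  obtain ⟨f, hf⟩ := N.hq
  rw [hf]
  exact Nat.Coprime.pow_left _ ((Nat.coprime_primes N.hp Nat.prime_two).mpr hp2)

/-- (H1) -/
theorem of_not_dvd {n : ℕ} (hn : InL p s n1 n0 n) (h : ¬ p ∣ n) : n = 1 ∨ n = n1 := by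
  rcases hn with h1 | h1 | h1 | h1 | ⟨hp2, h1⟩
  · exact Or.inl h1
  · exact Or.inr h1
  · exact absurd (by rw [h1]; exact N.p_dvd_q.mul_right _) h
  · exact absurd (by rw [h1]; exact N.p_dvd_q.mul_right _) h
  · exact absurd (by rw [h1]; exact N.p_dvd_n0 hp2) h

/-- (H2) -/
theorem of_n1_dvd {n : ℕ} (hn : InL p s n1 n0 n) (h : n1 ∣ n) : n = n1 := by
  have hs := N.s3
  have hg := N.n1_gt
  have hc := N.coprime_q_n1
  have key : ∀ m, n1 ∣ (s + 1) * m → 0 < m → m ≤ s + 2 → False := by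
    intro m hm h0 hle
    have h1 : n1 ∣ m := hc.symm.dvd_of_dvd_mul_left hm
    have h2 := Nat.le_of_dvd h0 h1
    have h3 := N.hn1
    rcases N.hd with ⟨-, hd, hs⟩ | ⟨-, hd, hs⟩
    · subst hd; nlinarith
    · subst hd; nlinarith
  rcases hn with h1 | h1 | h1 | h1 | ⟨hp2, h1⟩
  · rw [h1, Nat.dvd_one] at h; omega
  · exact h1
  · exact absurd (key s (h1 ▸ h) (by omega) (by omega)) (by simp)
  · exact absurd (key (s + 2) (h1 ▸ h) (by omega) (by omega)) (by simp)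
  · rcases N.hn0 hp2 with ⟨-, h2⟩ | ⟨-, h2⟩
    · exact absurd (key (s + 2) (by rw [← h2, ← h1]; exact h.mul_left 2) (by omega) (by omega)) (by simp)
    · exact absurd (key s (by rw [← h2, ← h1]; exact h.mul_left 2) (by omega) (by omega)) (by simp)

theorem q_dvd_or {n : ℕ} (hn : InL p s n1 n0 n) : n = 1 ∨ n = n1 ∨ s + 1 ∣ n := by
  rcases hn with h1 | h1 | h1 | h1 | ⟨hp2, h1⟩
  · exact Or.inl h1
  · exact Or.inr (Or.inl h1)
  · exact Or.inr (Or.inr (by rw [h1]; exact dvd_mul_right _ _))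
  · exact Or.inr (Or.inr (by rw [h1]; exact dvd_mul_right _ _))
  · exact Or.inr (Or.inr (by rw [h1]; exact N.q_dvd_n0 hp2))

/-- (H3) -/
theorem of_dvd {u w : ℕ} (hu : InL p s n1 n0 u) (hw : InL p s n1 n0 w) (hu1 : u ≠ 1) (h : u ∣ w)
    (hw0 : w ≠ 1) : w = u ∨ (p ≠ 2 ∧ u = n0 ∧ w = 2 * u) := by
  have hs := N.s3
  have hg := N.n1_gt
  have hc := N.coprime_q_n1
  have hnq : ¬ (s + 1 ∣ n1) := by
    intro h2
    have h3 := Nat.eq_one_of_dvd_coprimes hc dvd_rfl h2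
    omega
  by_cases hun : u = n1
  · subst hun
    exact Or.inl (N.of_n1_dvd hw h)
  have hqu : s + 1 ∣ u := by
    rcases N.q_dvd_or hu with h1 | h1 | h1
    · exact absurd h1 hu1
    · exact absurd h1 hun
    · exact h1
  have hwn : w ≠ n1 := by
    rintro rfl
    exact hnq (hqu.trans h)
  obtain ⟨k, hk⟩ := h
  have hqpos : 0 < s + 1 := by omega
  -- `2 u = q a`, `2 w = q b`
  have key : ∀ n, InL p s n1 n0 n → n ≠ 1 → n ≠ n1 → ∃ a, 2 * n = (s + 1) * a ∧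
      (a = 2 * s ∨ a = 2 * (s + 2) ∨ (p ≠ 2 ∧ n = n0 ∧ ((s % 4 = 0 ∧ a = s + 2) ∨ (s % 4 = 2 ∧ a = s)))) := by
    intro n hn h1 h2
    rcases hn with h3 | h3 | h3 | h3 | ⟨hp2, h3⟩
    · exact absurd h3 h1
    · exact absurd h3 h2
    · exact ⟨2 * s, by rw [h3]; ring, Or.inl rfl⟩
    · exact ⟨2 * (s + 2), by rw [h3]; ring, Or.inr (Or.inl rfl)⟩
    · rcases N.hn0 hp2 with ⟨h4, h5⟩ | ⟨h4, h5⟩
      · exact ⟨s + 2, by rw [h3, h5], Or.inr (Or.inr ⟨hp2, h3, Or.inl ⟨h4, rfl⟩⟩)⟩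
      · exact ⟨s, by rw [h3, h5], Or.inr (Or.inr ⟨hp2, h3, Or.inr ⟨h4, rfl⟩⟩)⟩
  obtain ⟨a, ha, ha'⟩ := key u hu hu1 hun
  obtain ⟨b, hb, hb'⟩ := key w hw hw0 hwn
  have hab : b = a * k := by
    apply Nat.eq_of_mul_eq_mul_left hqpos
    rw [← hb, hk, ← mul_assoc, ha, mul_assoc]
  have hk0 : k ≠ 0 := by
    rintro rfl
    rw [mul_zero] at hab
    rcases hb' with h | h | ⟨-, -, h | h⟩ <;> omega
  by_cases hk1 : k = 1
  · left; rw [hk, hk1, mul_one]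
  have hs6 : p ≠ 2 → 6 ≤ s := by
    intro h
    rcases N.hd with h1 | h1
    · exact absurd h1.1 h
    · exact h1.2.2
  by_cases hk2 : k = 2
  · subst hk2
    rcases ha' with h | h | ⟨hp2, hu0, h⟩
    · exfalso
      rcases hb' with h3 | h3 | ⟨hp2, -, h3 | h3⟩ <;> omega
    · exfalso
      rcases hb' with h3 | h3 | ⟨hp2, -, h3 | h3⟩ <;> omega
    · exact Or.inr ⟨hp2, hu0, by rw [hk, mul_comm]⟩
  · exfalso
    have hk3 : 3 ≤ k := by omega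
    have hm : a * 3 ≤ b := by rw [hab]; exact Nat.mul_le_mul_left a hk3
    rcases ha' with h | h | ⟨hp2, hu0, h | h⟩
    · rcases hb' with h3 | h3 | ⟨hp2, -, h3 | h3⟩ <;> omega
    · rcases hb' with h3 | h3 | ⟨hp2, -, h3 | h3⟩ <;> omega
    · rcases hb' with h3 | h3 | ⟨hp2, -, h3 | h3⟩ <;> omega
    · have := hs6 hp2
      rcases hb' with h3 | h3 | ⟨hp2, -, h3 | h3⟩ <;> omega

end Num

/-- a group with the class sizes of `PSL₂(q)` -/
structure Grp (G : Type*) [Group G] (p s d n1 n0 : ℕ) : Prop extends Num p s d n1 n0 where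
  all : ∀ x : G, InL p s n1 n0 (cs x)
  ex1 : ∃ x : G, cs x = n1
  ex2 : ∃ x : G, cs x = (s + 1) * (s + 2)
  ex3 : p ≠ 2 → ∃ x : G, cs x = n0

end H72.Cls
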