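import Mathlib
import Cfsg.Agent.Lib.H72.Cls1
import Cfsg.Agent.Lib.H45.SL2TorusCard
import Cfsg.Agent.Lib.H43.GL2Count

/-!
The class sizes of `PSL₂(q)`.
-/

set_option autoImplicit false
set_option linter.unusedSectionVars false

open Subgroup
open H72.ClassSize H72.TwoLargest H45.SL2 H72.Cls

namespace H72.PSLClass

variable {F : Type*} [Field F]

local notation "SL" => Matrix.SpecialLinearGroup (Fin 2) F
local notation "PSL" => Matrix.ProjectiveSpecialLinearGroup (Fin 2) F

variable (F) in
/-- the projection -/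
def pj : Matrix.SpecialLinearGroup (Fin 2) F →* Matrix.ProjectiveSpecialLinearGroup (Fin 2) F :=
  QuotientGroup.mk' (Subgroup.center (Matrix.SpecialLinearGroup (Fin 2) F))

theorem pj_one_iff (x : SL) : pj F x = 1 ↔ x = 1 ∨ x = -1 := by
  rw [← H45.SL2.mem_center_iff]
  exact QuotientGroup.eq_one_iff _

theorem pj_surj : Function.Surjective (pj F) := QuotientGroup.mk_surjective

theorem neg_mul_comm' (x y : SL) : -x * y = x * -y := by
  rw [neg_mul, mul_neg]

/-- the elements centralizing `A` modulo scalars -/
theorem mem_comap_cent (A h : SL) : h ∈ (centralizer ({pj F A} : Set PSL)).comap (pj F) ↔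
    h * A = A * h ∨ h * A = -(A * h) := by
  rw [Subgroup.mem_comap, mem_cent, ← map_mul, ← map_mul, ← div_eq_one, ← map_div, pj_one_iff, div_eq_one,
    div_eq_iff_eq_mul, neg_one_mul]

theorem tr_of_neg {A h : SL} (hA : h * A = -(A * h)) : tr A = - tr A := by
  have h1 : h * A * h⁻¹ = -A := by
    rw [hA, neg_mul, mul_assoc, mul_inv_cancel, mul_one]
  have h2 := tr_conj h A
  rw [h1, tr_neg] at h2
  exact h2.symm

theorem neg_eq_of_char (h2 : (2 : F) = 0) (A : SL) : -A = A := by
  have h : ∀ x : F, -x = x := by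
    intro x
    have : x + x = 0 := by rw [← two_mul, h2, zero_mul]
    exact (eq_neg_of_add_eq_zero_left this).symm
  apply ext4 <;> rw [neg_ij, h]

/-- no fusion modulo scalars -/
theorem comap_cent_eq {A : SL} (h : tr A ≠ 0 ∨ (2 : F) = 0) :
    (centralizer ({pj F A} : Set PSL)).comap (pj F) = centralizer ({A} : Set SL) := by
  ext g
  rw [mem_comap_cent, mem_cent]
  constructor
  · rintro (h1 | h1)
    · exact h1
    · rcases h with h | h
      · by_cases h2 : (2 : F) = 0
        · rw [h1, neg_eq_of_char h2]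
        · exfalso
          apply h
          have h3 := tr_of_neg h1
          have h4 : (2 : F) * tr A = 0 := by rw [two_mul]; exact add_eq_zero_iff_eq_neg.mpr h3
          exact (mul_eq_zero.mp h4).resolve_left h2
      · rw [h1, neg_eq_of_char h]
  · exact Or.inl

theorem cs_pj_eq {A : SL} (h : tr A ≠ 0 ∨ (2 : F) = 0) : cs (pj F A) = cs A := by
  have h1 := Subgroup.index_comap_of_surjective (centralizer ({pj F A} : Set PSL)) (pj_surj (F := F))
  rw [comap_cent_eq h] at h1
  exact h1.symm

/-- elements of trace zero -/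
theorem two_mul_cs_pj [Finite F] {A : SL} (h0 : tr A = 0) (h2 : (2 : F) ≠ 0) :
    2 * cs (pj F A) = cs A := by
  have hle : centralizer ({A} : Set SL) ≤ (centralizer ({pj F A} : Set PSL)).comap (pj F) := by
    intro g hg
    rw [mem_comap_cent]
    exact Or.inl (mem_cent.mp hg)
  -- an element conjugating `A` to `-A`
  have h4 : (tr A) ^ 2 ≠ 4 := by
    rw [h0]
    intro h
    have h5 : (2 : F) * 2 = 0 := by linear_combination -h
    rcases mul_eq_zero.mp h5 with h6 | h6 <;> exact h2 h6
  obtain ⟨g, hg⟩ := isConj_iff.mp (isConj_of_tr_eq A (-A) (by rw [tr_neg, h0, neg_zero]) h4)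
  have hg' : g * A = -(A * g) := by
    have : g * A = (g * A * g⁻¹) * g := by group
    rw [this, hg, neg_mul]
  have hne : A ≠ -A := by
    intro h
    have h5 : ∀ i j, A.1 i j = 0 := by
      intro i j
      have h6 : A.1 i j = - A.1 i j := by
        conv_lhs => rw [h]
        rfl
      have h7 : (2 : F) * A.1 i j = 0 := by rw [two_mul]; exact add_eq_zero_iff_eq_neg.mpr h6
      exact (mul_eq_zero.mp h7).resolve_left h2
    have h6 := det_eq A
    simp [h5] at h6
  have hidx : (centralizer ({A} : Set SL)).relIndex ((centralizer ({pj F A} : Set PSL)).comap (pj F)) = 2 := by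
    show ((centralizer ({A} : Set SL)).subgroupOf ((centralizer ({pj F A} : Set PSL)).comap (pj F))).index = 2
    rw [Subgroup.index_eq_two_iff]
    refine ⟨⟨g, (mem_comap_cent A g).mpr (Or.inr hg')⟩, ?_⟩
    rintro ⟨b, hb⟩
    rw [mem_comap_cent] at hb
    rw [mem_subgroupOf, mem_subgroupOf]
    show Xor (b * g ∈ centralizer ({A} : Set SL)) (b ∈ centralizer ({A} : Set SL))
    rw [mem_cent, mem_cent]
    rcases hb with hb | hb
    · refine Or.inr ⟨hb, ?_⟩
      intro h5
      rw [mul_assoc, hg', mul_neg, ← mul_assoc, hb] at h5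
      have h6 : -(A * (b * g)) = A * (b * g) := by
        rw [← mul_assoc] at h5 ⊢
        exact h5
      rw [← neg_mul] at h6
      exact hne (mul_right_cancel h6).symm
    · refine Or.inl ⟨?_, ?_⟩
      · rw [mul_assoc, hg', mul_neg, ← mul_assoc, hb, neg_mul, neg_neg, mul_assoc]
      · intro h5
        rw [hb] at h5
        rw [← neg_mul] at h5
        exact hne (mul_right_cancel h5).symm
  have h1 := Subgroup.relIndex_mul_index hle
  rw [hidx, Subgroup.index_comap_of_surjective _ (pj_surj (F := F))] at h1
  exact h1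

end H72.PSLClass
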