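import Mathlib
import Cfsg.Agent.Lib.H72.PSLClass

/-!
The class sizes of `PSL₂(q)`, part 2: the numbers.
-/

set_option autoImplicit false
set_option linter.unusedSectionVars false

open Subgroup
open H72.ClassSize H72.TwoLargest H45.SL2 H72.Cls

namespace H72.PSLClass

variable {F : Type*} [Field F]

local notation "SL" => Matrix.SpecialLinearGroup (Fin 2) F
local notation "PSL" => Matrix.ProjectiveSpecialLinearGroup (Fin 2) F

theorem card_sq_one [Fintype F] (h2 : (2 : F) ≠ 0) : Nat.card {x : F // x ^ 2 = 1} = 2 := by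
  classical
  have hne : (1 : F) ≠ -1 := by
    intro h
    apply h2
    linear_combination h
  have h1 : Nat.card {x : F // x ^ 2 = 1} = Nat.card (({1, -1} : Set F)) := by
    apply Nat.card_congr
    apply Equiv.subtypeEquivRight
    intro x
    rw [Set.mem_insert_iff, Set.mem_singleton_iff]
    constructor
    · intro h
      have h3 : (x - 1) * (x + 1) = 0 := by linear_combination h
      rcases mul_eq_zero.mp h3 with h4 | h4
      · exact Or.inl (by linear_combination h4)
      · exact Or.inr (by linear_combination h4)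
    · rintro (rfl | rfl) <;> ring
  rw [h1, Nat.card_coe_set_eq, Set.ncard_pair hne]

theorem card_sq_one' [Fintype F] (h2 : (2 : F) = 0) : Nat.card {x : F // x ^ 2 = 1} = 1 := by
  classical
  rw [Nat.card_eq_one_iff_unique]
  refine ⟨⟨?_⟩, ⟨1, one_pow 2⟩⟩
  rintro ⟨x, hx⟩ ⟨y, hy⟩
  have key : ∀ z : F, z ^ 2 = 1 → z = 1 := by
    intro z hz
    have h3 : (z - 1) ^ 2 = 0 := by linear_combination hz - (z - 1) * h2
    exact sub_eq_zero.mp (pow_eq_zero_iff two_ne_zero |>.mp h3)
  exact Subtype.ext ((key x hx).trans (key y hy).symm)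

/-- the three types of nonscalar elements -/
theorem trichotomy (A : SL) : (∃ l : F, tr A = l + l ∧ l * l = 1) ∨
    (∃ l m : F, l ≠ m ∧ tr A = l + m ∧ l * m = 1) ∨
    (¬ ∃ c : F, c ^ 2 - tr A * c + 1 = 0) := by
  by_cases h : ∃ c : F, c ^ 2 - tr A * c + 1 = 0
  · obtain ⟨c, hc⟩ := h
    by_cases hm : c = tr A - c
    · left
      refine ⟨c, by linear_combination -hm, ?_⟩
      linear_combination -hc + c * hm
    · right; left
      exact ⟨c, tr A - c, hm, by ring, by linear_combination -hc⟩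
  · exact Or.inr (Or.inr h)

variable [Fintype F] {s : ℕ} (hF : Fintype.card F = s + 1)
include hF

theorem cs_mul (A : SL) : cs A * Nat.card (centralizer ({A} : Set SL)) = (s + 1) * s * (s + 2) := by
  have h1 := Subgroup.card_mul_index (centralizer ({A} : Set SL))
  rw [card_SL2, hF] at h1
  rw [mul_comm]
  exact h1

theorem cs_split {A : SL} {l m : F} (h : l ≠ m) (ht : tr A = l + m) (hd : l * m = 1) :
    cs A = (s + 1) * (s + 2) := by
  have h1 := H43.GL2Count.sl_card_centralizer_split A l m h (by rw [← tr_eq_trace]; exact ht) hd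
  have h2 := cs_mul hF A
  have hs : 0 < s := by
    have := Fintype.one_lt_card (α := F)
    omega
  rw [h1, hF, Nat.add_sub_cancel] at h2
  apply Nat.eq_of_mul_eq_mul_right hs
  rw [h2]; ring

theorem cs_aniso {A : SL} (h : ¬ ∃ c : F, c ^ 2 - tr A * c + 1 = 0) : cs A = (s + 1) * s := by
  have h1 := H43.GL2Count.sl_card_centralizer_aniso A (by
    rw [H43.GL2Basic.hasEig_iff, ← tr_eq_trace, A.det_coe]
    exact h)
  have h2 := cs_mul hF A
  rw [h1, hF] at h2
  apply Nat.eq_of_mul_eq_mul_right (show 0 < s + 1 + 1 by omega)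
  rw [h2]

theorem cs_unip {A : SL} (hA : ¬ (A = 1 ∨ A = -1)) {l : F} (ht : tr A = l + l) (hl : l * l = 1) :
    cs A * Nat.card {x : F // x ^ 2 = 1} = s * (s + 2) := by
  have h1 := H43.GL2Count.sl_card_centralizer_unip A l (by
    rintro ⟨h1, h2, h3⟩
    exact hA (scalar_iff h1 h2 h3)) (by rw [← tr_eq_trace]; exact ht) hl
  have h2 := cs_mul hF A
  rw [h1, hF] at h2
  apply Nat.eq_of_mul_eq_mul_right (show 0 < s + 1 by omega)
  rw [mul_assoc, h2]; ring

variable {p d n1 n0 : ℕ} (N : Num p s d n1 n0) (hp : p = 2 ↔ (2 : F) = 0)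
include N hp

theorem cs_pj_cases {A : SL} (hA : ¬ (A = 1 ∨ A = -1)) :
    (p ≠ 2 ∧ tr A = 0 ∧ cs (pj F A) = n0) ∨ ((p = 2 ∨ tr A ≠ 0) ∧
      (cs (pj F A) = n1 ∨ cs (pj F A) = (s + 1) * s ∨ cs (pj F A) = (s + 1) * (s + 2))) := by
  by_cases h0 : p ≠ 2 ∧ tr A = 0
  · left
    obtain ⟨hp2, ht⟩ := h0
    refine ⟨hp2, ht, ?_⟩
    have h2 : (2 : F) ≠ 0 := fun h => hp2 (hp.mpr h)
    have h3 := two_mul_cs_pj ht h2
    have hsq := FiniteField.isSquare_neg_one_iff (F := F)
    rw [hF] at hsq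
    rcases trichotomy A with ⟨l, hl, hl2⟩ | ⟨l, m, hlm, hl, hl2⟩ | h
    · exfalso
      rw [ht, ← two_mul] at hl
      have h4 := (mul_eq_zero.mp hl.symm).resolve_left h2
      rw [h4, mul_zero] at hl2
      exact zero_ne_one hl2
    · have h4 : IsSquare (-1 : F) := ⟨l, by
        rw [ht] at hl
        linear_combination hl2 + l * hl⟩
      have h5 := hsq.mp h4
      have h6 := cs_split hF hlm hl hl2
      rcases N.hn0 hp2 with ⟨h7, h8⟩ | ⟨h7, h8⟩ <;> omega
    · have h4 : ¬ IsSquare (-1 : F) := by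
        rintro ⟨c, hc⟩
        exact h ⟨c, by rw [ht]; linear_combination -hc⟩
      have h5 : (s + 1) % 4 = 3 := by
        by_contra h6
        exact h4 (hsq.mpr h6)
      have h6 := cs_aniso hF h
      rcases N.hn0 hp2 with ⟨h7, h8⟩ | ⟨h7, h8⟩ <;> omega
  · right
    have h1 : p = 2 ∨ tr A ≠ 0 := by
      by_contra hcon
      push Not at hcon
      exact h0 hcon
    refine ⟨h1, ?_⟩
    have h2 : tr A ≠ 0 ∨ (2 : F) = 0 := by
      rcases h1 with h | h
      · exact Or.inr (hp.mp h)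
      · exact Or.inl h
    rw [cs_pj_eq h2]
    rcases trichotomy A with ⟨l, hl, hl2⟩ | ⟨l, m, hlm, hl, hl2⟩ | h
    · left
      have h3 := cs_unip hF hA hl hl2
      have h4 : Nat.card {x : F // x ^ 2 = 1} = d := by
        rcases N.hd with ⟨h5, h6, -⟩ | ⟨h5, h6, -⟩
        · rw [card_sq_one' (hp.mp h5), h6]
        · rw [card_sq_one (fun h => h5 (hp.mpr h)), h6]
      rw [h4, ← N.hn1] at h3
      apply Nat.eq_of_mul_eq_mul_right N.d_pos
      rw [h3, mul_comm]
    · exact Or.inr (Or.inr (cs_split hF hlm hl hl2))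
    · exact Or.inr (Or.inl (cs_aniso hF h))

theorem cs_n0_iff {A : SL} (hp2 : p ≠ 2) : cs (pj F A) = n0 ↔ tr A = 0 := by
  have hs := N.s3
  have hn0 : n0 ≠ n1 ∧ n0 ≠ (s + 1) * s ∧ n0 ≠ (s + 1) * (s + 2) ∧ n0 ≠ 1 := by
    have h1 := N.p_dvd_n0 hp2
    have h2 := N.p_not_dvd_n1
    have h6 : 6 ≤ s := by
      rcases N.hd with h | h
      · exact absurd h.1 hp2
      · exact h.2.2
    refine ⟨?_, ?_, ?_, ?_⟩
    · rintro rfl; exact h2 h1
    · intro h
      rcases N.hn0 hp2 with ⟨h3, h4⟩ | ⟨h3, h4⟩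
      · rw [h] at h4
        have h5 : 2 * s = s + 2 := Nat.eq_of_mul_eq_mul_left (show 0 < s + 1 by omega) (by rw [← h4]; ring)
        omega
      · rw [h] at h4
        have h5 : 2 * s = s := Nat.eq_of_mul_eq_mul_left (show 0 < s + 1 by omega) (by rw [← h4]; ring)
        omega
    · intro h
      rcases N.hn0 hp2 with ⟨h3, h4⟩ | ⟨h3, h4⟩
      · rw [h] at h4
        have h5 : 2 * (s + 2) = s + 2 := Nat.eq_of_mul_eq_mul_left (show 0 < s + 1 by omega) (by rw [← h4]; ring)
        omega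
      · rw [h] at h4
        have h5 : 2 * (s + 2) = s := Nat.eq_of_mul_eq_mul_left (show 0 < s + 1 by omega) (by rw [← h4]; ring)
        omega
    · intro h
      rw [h] at h1
      exact N.hp.one_lt.ne' (Nat.dvd_one.mp h1)
  constructor
  · intro h
    by_cases hA : A = 1 ∨ A = -1
    · exfalso
      have h1 : cs (pj F A) = 1 := by
        rw [(pj_one_iff A).mpr hA, cs_eq_one]
        exact one_mem _
      rw [h1] at h
      exact hn0.2.2.2 h.symm
    · rcases cs_pj_cases hF N hp hA with h1 | ⟨-, h1 | h1 | h1⟩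
      · exact h1.2.1
      · exact absurd (h.symm.trans h1) hn0.1
      · exact absurd (h.symm.trans h1) hn0.2.1
      · exact absurd (h.symm.trans h1) hn0.2.2.1
  · intro h
    have h2 : (2 : F) ≠ 0 := fun h => hp2 (hp.mpr h)
    have hA : ¬ (A = 1 ∨ A = -1) := by
      rintro (rfl | rfl)
      · rw [tr_one] at h; exact h2 h
      · rw [tr_neg, tr_one] at h; exact h2 (neg_eq_zero.mp h)
    rcases cs_pj_cases hF N hp hA with h1 | ⟨h1 | h1, -⟩
    · exact h1.2.2
    · exact absurd h1 hp2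
    · exact absurd h h1

theorem grp : Grp PSL p s d n1 n0 := by
  classical
  have hs := N.s3
  refine { toNum := N, all := ?_, ex1 := ?_, ex2 := ?_, ex3 := ?_ }
  · intro x
    obtain ⟨A, rfl⟩ := pj_surj x
    by_cases hA : A = 1 ∨ A = -1
    · left
      rw [(pj_one_iff A).mpr hA, cs_eq_one]
      exact one_mem _
    · rcases cs_pj_cases hF N hp hA with h1 | ⟨-, h1 | h1 | h1⟩
      · exact Or.inr (Or.inr (Or.inr (Or.inr ⟨h1.1, h1.2.2⟩)))
      · exact Or.inr (Or.inl h1)
      · exact Or.inr (Or.inr (Or.inl h1))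
      · exact Or.inr (Or.inr (Or.inr (Or.inl h1)))
  · refine ⟨pj F (mk2 1 1 0 1 (by ring)), ?_⟩
    have hA : ¬ ((mk2 1 1 0 1 (by ring) : SL) = 1 ∨ (mk2 1 1 0 1 (by ring) : SL) = -1) := by
      rintro (h | h)
      · have h1 := congrArg (fun M : SL => M.1 0 1) h
        simp at h1
      · have h1 := congrArg (fun M : SL => M.1 0 1) h
        simp [neg_ij] at h1
    have h2 : tr (mk2 1 1 0 1 (by ring) : SL) ≠ 0 ∨ (2 : F) = 0 := by
      rw [tr_mk2]
      by_cases h : (2 : F) = 0
      · exact Or.inr h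
      · left; intro h1; apply h; linear_combination h1
    rw [cs_pj_eq h2]
    have h3 := cs_unip hF hA (l := 1) (by rw [tr_mk2]) (by ring)
    have h4 : Nat.card {x : F // x ^ 2 = 1} = d := by
      rcases N.hd with ⟨h5, h6, -⟩ | ⟨h5, h6, -⟩
      · rw [card_sq_one' (hp.mp h5), h6]
      · rw [card_sq_one (fun h => h5 (hp.mpr h)), h6]
    rw [h4, ← N.hn1] at h3
    apply Nat.eq_of_mul_eq_mul_right N.d_pos
    rw [h3, mul_comm]
  · obtain ⟨l, hl⟩ := IsCyclic.exists_generator (α := Fˣ)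
    have hlo : orderOf l = s := by
      rw [orderOf_eq_card_of_forall_mem_zpowers hl, Nat.card_eq_fintype_card, Fintype.card_units, hF]
      rfl
    have hl2 : l ^ 2 ≠ 1 := by
      intro h
      have := Nat.le_of_dvd (by norm_num) (orderOf_dvd_of_pow_eq_one h)
      omega
    have hl2' : (l : F) ^ 2 ≠ 1 := by
      intro h
      apply hl2
      apply Units.ext
      rw [Units.val_pow_eq_pow_val, h, Units.val_one]
    have hl0 : (l : F) ≠ 0 := l.ne_zero
    refine ⟨pj F (mk2 l 0 0 (l : F)⁻¹ (by rw [mul_inv_cancel₀ hl0]; ring)), ?_⟩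
    have h2 : tr (mk2 l 0 0 (l : F)⁻¹ (by rw [mul_inv_cancel₀ hl0]; ring) : SL) ≠ 0 ∨ (2 : F) = 0 := by
      rw [tr_mk2]
      by_cases h : (2 : F) = 0
      · exact Or.inr h
      · left; intro h1
        have h3 : (l : F) ^ 2 = -1 := by
          have h4 : (l : F) * (l + (l : F)⁻¹) = 0 := by rw [h1, mul_zero]
          rw [mul_add, mul_inv_cancel₀ hl0] at h4
          linear_combination h4
        have h4 : l ^ 4 = 1 := by
          apply Units.ext
          rw [Units.val_pow_eq_pow_val, Units.val_one]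
          linear_combination ((l : F) ^ 2 - 1) * h3
        have h5 := Nat.le_of_dvd (by norm_num) (orderOf_dvd_of_pow_eq_one h4)
        rcases N.hd with ⟨h6, -, -⟩ | ⟨-, -, h6⟩
        · exact h (hp.mp h6)
        · omega
    rw [cs_pj_eq h2]
    refine cs_split hF (l := l) (m := (l : F)⁻¹) ?_ (tr_mk2 _ _ _ _ _) (mul_inv_cancel₀ hl0)
    intro h
    apply hl2'
    rw [pow_two]
    nth_rewrite 2 [h]
    exact mul_inv_cancel₀ hl0
  · intro hp2
    refine ⟨pj F (mk2 0 (-1) 1 0 (by ring)), ?_⟩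
    rw [cs_n0_iff hF N hp hp2, tr_mk2, add_zero]

end H72.PSLClass
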