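import Mathlib

/-!
Jordan's theorem: a primitive permutation group containing a cycle of prime length fixing at
least three points contains the alternating group.
-/

set_option autoImplicit false

open MulAction Subgroup Equiv.Perm

namespace H72.JordanCycle

theorem apply_inv_self' {α : Type*} (f : Equiv.Perm α) (x : α) : f (f⁻¹ x) = x :=
  Equiv.apply_symm_apply f x

theorem inv_apply_self' {α : Type*} (f : Equiv.Perm α) (x : α) : f⁻¹ (f x) = x :=
  Equiv.symm_apply_apply f x

/-- the Frattini/Witt argument -/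
theorem witt {Γ : Type*} [Group Γ] [Finite Γ] (K : Subgroup Γ) (p : ℕ) [hp : Fact p.Prime] (z : Γ)
    (hz : z ∈ K) (hzp : orderOf z = p) (hK : ¬ p ^ 2 ∣ Nat.card K) (u : Γ) (hu : u * z * u⁻¹ ∈ K) :
    ∃ h ∈ K, (h * u) * z * (h * u)⁻¹ ∈ zpowers z := by
  have hfac : (Nat.card K).factorization p = 1 := by
    apply le_antisymm
    · by_contra hcon
      push Not at hcon
      exact hK ((hp.out.pow_dvd_iff_le_factorization Nat.card_pos.ne').mpr hcon)
    · apply hp.out.factorization_pos_of_dvd Nat.card_pos.ne'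
      rw [← hzp]
      exact Subgroup.orderOf_dvd_natCard K hz
  have huo : orderOf (u * z * u⁻¹) = p := by
    rw [← hzp]
    exact orderOf_injective (MulAut.conj u).toMonoidHom (MulAut.conj u).injective z
  let P : Sylow p K := Sylow.ofCard (zpowers (⟨z, hz⟩ : K)) (by
    rw [hfac, pow_one, Nat.card_zpowers, Subgroup.orderOf_mk, hzp])
  let Q : Sylow p K := Sylow.ofCard (zpowers (⟨u * z * u⁻¹, hu⟩ : K)) (by
    rw [hfac, pow_one, Nat.card_zpowers, Subgroup.orderOf_mk, huo])
  obtain ⟨h, hh⟩ := MulAction.exists_smul_eq K Q P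
  refine ⟨h, h.2, ?_⟩
  have h1 : h * (⟨u * z * u⁻¹, hu⟩ : K) * h⁻¹ ∈ (h • Q : Sylow p K) := by
    show h * (⟨u * z * u⁻¹, hu⟩ : K) * h⁻¹ ∈ ((h • Q : Sylow p K) : Subgroup K)
    rw [Sylow.coe_subgroup_smul]
    exact ⟨_, mem_zpowers _, rfl⟩
  rw [hh] at h1
  obtain ⟨i, hi⟩ := mem_zpowers_iff.mp (show h * (⟨u * z * u⁻¹, hu⟩ : K) * h⁻¹ ∈ zpowers (⟨z, hz⟩ : K) from h1)
  refine mem_zpowers_iff.mpr ⟨i, ?_⟩
  have h2 := congrArg Subtype.val hi
  simp only [Subgroup.coe_zpow, Subgroup.coe_mul, Subgroup.coe_inv] at h2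
  rw [h2]
  group

theorem commute_of_normalize {Γ : Type*} [Group Γ] {z u v : Γ} (hu : u * z * u⁻¹ ∈ zpowers z)
    (hv : v * z * v⁻¹ ∈ zpowers z) : ((v * u)⁻¹ * (u * v)) * z = z * ((v * u)⁻¹ * (u * v)) := by
  obtain ⟨i, hi⟩ := mem_zpowers_iff.mp hu
  obtain ⟨j, hj⟩ := mem_zpowers_iff.mp hv
  have h1 : (u * v) * z * (u * v)⁻¹ = z ^ (i * j) := by
    calc (u * v) * z * (u * v)⁻¹ = u * (v * z * v⁻¹) * u⁻¹ := by group
      _ = u * z ^ j * u⁻¹ := by rw [hj]
      _ = (u * z * u⁻¹) ^ j := by rw [conj_zpow]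
      _ = z ^ (i * j) := by rw [← hi, zpow_mul]
  have h2 : (v * u) * z * (v * u)⁻¹ = z ^ (i * j) := by
    calc (v * u) * z * (v * u)⁻¹ = v * (u * z * u⁻¹) * v⁻¹ := by group
      _ = v * z ^ i * v⁻¹ := by rw [hi]
      _ = (v * z * v⁻¹) ^ i := by rw [conj_zpow]
      _ = z ^ (i * j) := by rw [← hj, mul_comm, zpow_mul]
  have h3 : ((v * u)⁻¹ * (u * v)) * z * ((v * u)⁻¹ * (u * v))⁻¹ = z := by
    calc ((v * u)⁻¹ * (u * v)) * z * ((v * u)⁻¹ * (u * v))⁻¹
        = (v * u)⁻¹ * ((u * v) * z * (u * v)⁻¹) * (v * u) := by group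
      _ = (v * u)⁻¹ * ((v * u) * z * (v * u)⁻¹) * (v * u) := by rw [h1, h2]
      _ = z := by group
  exact mul_inv_eq_iff_eq_mul.mp h3

theorem exists_eq_on {α : Type*} [Fintype α] [DecidableEq α] (G : Subgroup (Equiv.Perm α))
    (F : Finset α) (h : IsMultiplyPretransitive G α F.card) (σ : Equiv.Perm α) :
    ∃ g : G, ∀ a ∈ F, (g : Equiv.Perm α) a = σ a := by
  let x : Fin F.card ↪ α := (F.equivFin.symm.toEmbedding).trans (Function.Embedding.subtype _)
  obtain ⟨g, hg⟩ := MulAction.exists_smul_eq G x (x.trans σ.toEmbedding)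
  refine ⟨g, fun a ha => ?_⟩
  have := DFunLike.congr_fun hg (F.equivFin ⟨a, ha⟩)
  have h2 : g • a = σ a := by simpa [x] using this
  exact h2

/-- the key element -/
theorem exists_w {α : Type*} [Fintype α] [DecidableEq α] (G : Subgroup (Equiv.Perm α))
    (F : Finset α) (hmt : IsMultiplyPretransitive G α F.card) {p : ℕ} [Fact p.Prime]
    (z : Equiv.Perm α) (hz : z ∈ G) (hzF : ∀ a ∈ F, z a = a) (hzo : orderOf z = p)
    (hp2 : ¬ p ^ 2 ∣ Nat.card (fixingSubgroup G (F : Set α))) (a b c : α) (ha : a ∈ F) (hb : b ∈ F)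
    (hc : c ∈ F) : ∃ w ∈ G, w * z = z * w ∧
      ∀ f ∈ F, w f = ((Equiv.swap a b * Equiv.swap a c) * (Equiv.swap a b * Equiv.swap a c)) f := by
  set K : Subgroup G := fixingSubgroup G (F : Set α) with hK
  have hKmem : ∀ g : G, g ∈ K ↔ ∀ f ∈ F, (g : Equiv.Perm α) f = f := by
    intro g
    rw [hK, mem_fixingSubgroup_iff]
    rfl
  let z' : G := ⟨z, hz⟩
  have hz'K : z' ∈ K := (hKmem z').mpr hzF
  have hz'o : orderOf z' = p := by rw [Subgroup.orderOf_mk, hzo]
  have hsF : ∀ x ∈ F, ∀ y ∈ F, ∀ f ∈ F, Equiv.swap x y f ∈ F := by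
    intro x hx y hy f hf
    rw [Equiv.swap_apply_def]
    split_ifs
    · exact hy
    · exact hx
    · exact hf
  -- element of G normalizing `z` with prescribed action on F
  have key : ∀ x ∈ F, ∀ y ∈ F, ∃ u : G, u * z' * u⁻¹ ∈ zpowers z' ∧
      ∀ f ∈ F, (u : Equiv.Perm α) f = Equiv.swap x y f := by
    intro x hx y hy
    obtain ⟨u0, hu0⟩ := exists_eq_on G F hmt (Equiv.swap x y)
    have hinv : ∀ f ∈ F, (u0⁻¹ : Equiv.Perm α) f = Equiv.swap x y f := by
      intro f hf
      rw [Equiv.Perm.inv_eq_iff_eq, hu0 _ (hsF x hx y hy f hf), Equiv.swap_apply_self]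
    have h1 : u0 * z' * u0⁻¹ ∈ K := by
      rw [hKmem]
      intro f hf
      show (u0 : Equiv.Perm α) (z ((u0⁻¹ : Equiv.Perm α) f)) = f
      rw [hinv f hf, hzF _ (hsF x hx y hy f hf), ← hinv f hf, apply_inv_self']
    obtain ⟨h, hhK, hh⟩ := witt K p z' hz'K hz'o hp2 u0 h1
    refine ⟨h * u0, hh, ?_⟩
    intro f hf
    show (h : Equiv.Perm α) ((u0 : Equiv.Perm α) f) = _
    rw [hu0 f hf]
    exact (hKmem h).mp hhK _ (hsF x hx y hy f hf)
  obtain ⟨u, hu, huF⟩ := key a ha b hb
  obtain ⟨v, hv, hvF⟩ := key a ha c hc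
  have hw := commute_of_normalize hu hv
  refine ⟨((v * u)⁻¹ * (u * v) : G), SetLike.coe_mem _, congrArg Subtype.val hw, ?_⟩
  intro f hf
  have e1 : ((v * u)⁻¹ * (u * v) : G) = u⁻¹ * (v⁻¹ * (u * v)) := by group
  have hui : ∀ f ∈ F, ((u⁻¹ : G) : Equiv.Perm α) f = Equiv.swap a b f := by
    intro f hf
    rw [Subgroup.coe_inv, Equiv.Perm.inv_eq_iff_eq, huF _ (hsF a ha b hb f hf), Equiv.swap_apply_self]
  have hvi : ∀ f ∈ F, ((v⁻¹ : G) : Equiv.Perm α) f = Equiv.swap a c f := by
    intro f hf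
    rw [Subgroup.coe_inv, Equiv.Perm.inv_eq_iff_eq, hvF _ (hsF a ha c hc f hf), Equiv.swap_apply_self]
  rw [e1]
  show ((u⁻¹ : G) : Equiv.Perm α) (((v⁻¹ : G) : Equiv.Perm α) ((u : Equiv.Perm α) ((v : Equiv.Perm α) f))) = _
  rw [hvF f hf, huF _ (hsF a ha c hc f hf), hvi _ (hsF a ha b hb _ (hsF a ha c hc f hf)),
    hui _ (hsF a ha c hc _ (hsF a ha b hb _ (hsF a ha c hc f hf)))]
  rfl

theorem isThreeCycle_w {α : Type*} [Fintype α] [DecidableEq α] {a b c : α} (hab : a ≠ b)
    (hac : a ≠ c) (hbc : b ≠ c) :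
    ((Equiv.swap a b * Equiv.swap a c) * (Equiv.swap a b * Equiv.swap a c)).IsThreeCycle :=
  (Equiv.Perm.isThreeCycle_swap_mul_swap_same hab hac hbc).isThreeCycle_sq

theorem w_apply_of_ne {α : Type*} [DecidableEq α] {a b c x : α} (hxa : x ≠ a) (hxb : x ≠ b)
    (hxc : x ≠ c) :
    ((Equiv.swap a b * Equiv.swap a c) * (Equiv.swap a b * Equiv.swap a c)) x = x := by
  simp only [Equiv.Perm.mul_apply]
  rw [Equiv.swap_apply_of_ne_of_ne hxa hxc, Equiv.swap_apply_of_ne_of_ne hxa hxb,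
    Equiv.swap_apply_of_ne_of_ne hxa hxc, Equiv.swap_apply_of_ne_of_ne hxa hxb]

/-- the pointwise stabilizer of the fixed points of a `p`-cycle has order not divisible by `p ^ 2` -/
theorem card_fixing_dvd {α : Type*} [Fintype α] [DecidableEq α] (G : Subgroup (Equiv.Perm α))
    (F : Finset α) : Nat.card (fixingSubgroup G (F : Set α)) ∣ (Fᶜ.card).factorial := by
  classical
  have hinj : Function.Injective (MulAction.toPermHom (fixingSubgroup G (F : Set α))
      (SubMulAction.ofFixingSubgroup G (F : Set α))) := by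
    rw [injective_iff_map_eq_one]
    intro g hg
    apply Subtype.ext
    apply Subtype.ext
    apply Equiv.ext
    intro x
    by_cases hx : x ∈ F
    · exact (mem_fixingSubgroup_iff G).mp g.2 x hx
    · have h1 := DFunLike.congr_fun hg (⟨x, hx⟩ : SubMulAction.ofFixingSubgroup G (F : Set α))
      exact congrArg Subtype.val h1
  have h1 := Subgroup.card_dvd_of_injective _ hinj
  rw [Nat.card_perm] at h1
  have h2 : Nat.card (SubMulAction.ofFixingSubgroup G (F : Set α)) = Fᶜ.card := by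
    have h3 : Nat.card (SubMulAction.ofFixingSubgroup G (F : Set α)) =
        Nat.card ((F : Set α)ᶜ : Set α) := rfl
    rw [h3, ← Finset.coe_compl, Nat.card_coe_set_eq, Set.ncard_coe_finset]
  rw [h2] at h1
  exact h1

theorem not_sq_dvd_factorial {p : ℕ} (hp : p.Prime) : ¬ p ^ 2 ∣ p.factorial := by
  intro h
  obtain ⟨m, rfl⟩ : ∃ m, p = m + 1 := ⟨p - 1, (Nat.succ_pred_eq_of_pos hp.pos).symm⟩
  rw [Nat.factorial_succ, pow_two] at h
  have h1 := Nat.dvd_of_mul_dvd_mul_left hp.pos h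
  have h2 := (hp.dvd_factorial).mp h1
  omega

theorem isPreprimitive_fixing {α : Type*} [Fintype α] [DecidableEq α] {G : Subgroup (Equiv.Perm α)}
    {g : Equiv.Perm α} (hgc : g.IsCycle) (hgp : g.support.card.Prime) (hg : g ∈ G) :
    IsPreprimitive (fixingSubgroup G ((g.support : Set α)ᶜ))
      (SubMulAction.ofFixingSubgroup G ((g.support : Set α)ᶜ)) := by
  have := isPretransitive_of_isCycle_mem hgc hg
  apply IsPreprimitive.of_prime_card
  have h3 : Nat.card (SubMulAction.ofFixingSubgroup G ((g.support : Set α)ᶜ)) =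
      Nat.card (((g.support : Set α)ᶜ)ᶜ : Set α) := rfl
  rw [h3, compl_compl, Nat.card_coe_set_eq, Set.ncard_coe_finset]
  exact hgp

theorem isMultiplyPretransitive {α : Type*} [Fintype α] [DecidableEq α] {G : Subgroup (Equiv.Perm α)}
    (hG : IsPreprimitive G α) {g : Equiv.Perm α} (hgc : g.IsCycle) (hgp : g.support.card.Prime)
    (hg : g ∈ G) (h1 : g.support.card < Fintype.card α) :
    IsMultiplyPretransitive G α (Fintype.card α - g.support.card + 1) := by
  have h2 := hgp.two_le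
  have h3 : IsMultiplyPreprimitive G α (Fintype.card α - g.support.card - 1 + 2) := by
    apply hG.isMultiplyPreprimitive (s := (g.support : Set α)ᶜ)
    · rw [← Finset.coe_compl, Set.ncard_coe_finset, Finset.card_compl]
      omega
    · rw [Nat.card_eq_fintype_card]
      omega
    · exact isPreprimitive_fixing hgc hgp hg
  have h4 : Fintype.card α - g.support.card - 1 + 2 = Fintype.card α - g.support.card + 1 := by omega
  rw [h4] at h3
  exact h3.isMultiplyPretransitive

/-- **Jordan**: a primitive group containing a cycle of prime length fixing at least three points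
contains the alternating group. -/
theorem jordan_cycle {α : Type*} [Fintype α] [DecidableEq α] {G : Subgroup (Equiv.Perm α)}
    (hG : IsPreprimitive G α) (g : Equiv.Perm α) (hgc : g.IsCycle) (hgp : g.support.card.Prime)
    (hp' : g.support.card + 3 ≤ Fintype.card α) (hg : g ∈ G) : alternatingGroup α ≤ G := by
  classical
  set F : Finset α := g.supportᶜ with hF
  have hFc : F.card = Fintype.card α - g.support.card := by rw [hF, Finset.card_compl]
  have hFi : ∀ f ∈ F, g f = f := by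
    intro f hf
    rw [hF, Finset.mem_compl, Equiv.Perm.notMem_support] at hf
    exact hf
  have hmt : IsMultiplyPretransitive G α F.card := by
    have h1 := isMultiplyPretransitive hG hgc hgp hg (by omega)
    rw [hFc]
    have := hgp.two_le
    refine isMultiplyPretransitive_of_le (n := Fintype.card α - g.support.card + 1) (by omega) ?_
    rw [Nat.card_eq_fintype_card]
    omega
  obtain ⟨a, ha, b, hb, c, hc, hab, hac, hbc⟩ := Finset.two_lt_card.mp (by omega : 2 < F.card)
  have := Fact.mk hgp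
  have hp2 : ¬ g.support.card ^ 2 ∣ Nat.card (fixingSubgroup G (F : Set α)) := by
    intro h
    have h1 := h.trans (card_fixing_dvd G F)
    rw [hF, compl_compl] at h1
    exact not_sq_dvd_factorial hgp h1
  obtain ⟨w, hw, hwz, hwF⟩ := exists_w G F hmt g hg hFi hgc.orderOf hp2 a b c ha hb hc
  set t := (Equiv.swap a b * Equiv.swap a c) * (Equiv.swap a b * Equiv.swap a c) with ht
  have ht3 : t.IsThreeCycle := isThreeCycle_w hab hac hbc
  have htF : ∀ x, x ∉ F → t x = x := by
    intro x hx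
    apply w_apply_of_ne <;> rintro rfl <;> exact hx (by assumption)
  have htF' : ∀ x ∈ F, t x ∈ F := by
    intro x hx
    by_contra hcon
    have h1 := htF _ hcon
    have h2 := t.injective h1
    rw [h2] at hcon
    exact hcon hx
  have hwS : ∀ x, x ∉ F → w x ∉ F := by
    intro x hx hcon
    -- `t` permutes `F`, `w = t` on `F`
    have h1 : w (t⁻¹ (w x)) = w x := by
      have h3 : t⁻¹ (w x) ∈ F := by
        by_contra h4
        have h5 := htF _ h4
        rw [apply_inv_self'] at h5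
        rw [← h5] at h4
        exact h4 hcon
      rw [hwF _ h3, apply_inv_self']
    have h2 := w.injective h1
    rw [Equiv.Perm.inv_eq_iff_eq, htF x hx] at h2
    rw [h2] at hcon
    exact hx hcon
  obtain ⟨a0, ha0, hcyc⟩ := hgc
  have hmem : ∀ x, x ∉ F ↔ g x ≠ x := by
    intro x
    rw [hF, Finset.mem_compl, not_not, Equiv.Perm.mem_support]
  have ha0F : a0 ∉ F := (hmem a0).mpr ha0
  obtain ⟨j, hj⟩ := hcyc ((hmem _).mp (hwS a0 ha0F))
  have hwj : ∀ x, x ∉ F → w x = (g ^ j) x := by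
    intro x hx
    obtain ⟨i, hi⟩ := hcyc ((hmem _).mp hx)
    have hcom : Commute w (g ^ i) := (show Commute w g from hwz).zpow_right i
    have h1 : w ((g ^ i) a0) = (g ^ i) (w a0) := DFunLike.congr_fun hcom a0
    rw [← hi, h1, ← hj, ← Equiv.Perm.mul_apply, ← Equiv.Perm.mul_apply, ← zpow_add, ← zpow_add, add_comm]
  have hgjF : ∀ (j : ℤ), ∀ x ∈ F, (g ^ j) x = x := fun j x hx =>
    Equiv.Perm.zpow_apply_eq_self_of_apply_eq_self (hFi x hx) j
  have hfin : t = (g ^ j)⁻¹ * w := by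
    apply Equiv.ext
    intro x
    show t x = (g ^ j)⁻¹ (w x)
    by_cases hx : x ∈ F
    · rw [hwF x hx, ← zpow_neg, hgjF _ _ (htF' x hx)]
    · rw [hwj x hx, inv_apply_self', htF x hx]
  have htG : t ∈ G := by
    rw [hfin]
    exact G.mul_mem (G.inv_mem (G.zpow_mem hg j)) hw
  exact alternatingGroup_le_of_isPreprimitive_of_isThreeCycle_mem hG ht3 htG

end H72.JordanCycle
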