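import Cfsg.Agent.Lib.H89.MX0

set_option autoImplicit false
set_option linter.style.haveILetI false
open scoped commutatorElement
open Subgroup Cfsg Cfsg.FusionSystem H67.HallPetrescu H57.Mc H89.MX

namespace H72.MXS1c

variable {Ω : Type*} [Group Ω] {S : Subgroup Ω} [Finite S] {p n : ℕ} [hp : Fact p.Prime]
  {F : FusionSystem S} {E : Subgroup Ω}

theorem mul_le_of_lt {p : ℕ} [hp : Fact p.Prime] {N A B : Subgroup Ω} (hN : IsPGroup p N)
    [Finite N] (hB : B ≤ N) (h : A < B) : p * Nat.card A ≤ Nat.card B := by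
  haveI hfB : Finite B := Finite.of_injective _ (Subgroup.inclusion_injective hB)
  haveI hfA : Finite A := Finite.of_injective _ (Subgroup.inclusion_injective h.le)
  obtain ⟨a, ha⟩ := IsPGroup.iff_card.1 (hN.to_le (h.le.trans hB))
  obtain ⟨b, hb⟩ := IsPGroup.iff_card.1 (hN.to_le hB)
  have h1 : Nat.card A < Nat.card B := by
    apply lt_of_le_of_ne (Subgroup.card_le_of_le h.le)
    intro he
    exact h.ne (Subgroup.eq_of_le_of_card_ge h.le he.ge)
  rw [ha, hb] at h1 ⊢
  have h2 : a < b := (Nat.pow_lt_pow_iff_right hp.out.one_lt).1 h1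
  rw [← pow_succ']
  exact Nat.pow_le_pow_right hp.out.pos h2

theorem s1c (D : Dat S p n F E) (hN : Nat.card (normalizerIn S E) = p ^ 4) (hE1 : E ≤ T S 2) {y : Ω}
    (hy : y ∈ E) (hy' : y ∉ T S (n - 2)) (h7 : 7 ≤ n) (h1 : K S (n - 1) ≤ E)
    (h3 : K S (n - 3) ≤ normalizer (E : Set Ω)) (hE2 : E ⊓ K S 2 ≤ K S (n - 3))
    (hc : Nat.card (E ⊓ K S (n - 3) : Subgroup Ω) = p ^ 2) : False := by
  classical
  have hS : IsPGroup p S := D.mc.isPGroup
  have hES : E ≤ S := D.ess.1.1
  have hKS : ∀ i, K S i ≤ S := fun i => Subgroup.map_subtype_le _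
  have hyS : y ∈ S := hES hy
  have fin : ∀ A : Subgroup Ω, A ≤ S → Finite A := fun A hA =>
    Finite.of_injective _ (Subgroup.inclusion_injective hA)
  haveI := fin _ (hKS 2)
  haveI := fin _ (hKS 4)
  haveI := fin _ hES
  have cK : ∀ i, 2 ≤ i → i ≤ n → Nat.card (K S i) = p ^ (n - i) := by
    intro i hi hin
    rw [← D.mc.cardK i hi hin]
    exact (Nat.card_congr ((lcsF ↥S i).equivMapOfInjective _ S.subtype_injective).toEquiv).symm
  have anti : ∀ {i j : ℕ}, i ≤ j → K S j ≤ K S i := fun h => Subgroup.map_mono (K_anti h)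
  -- commutators
  have cm : ∀ {i j : ℕ} {x z : Ω}, x ∈ K S i → z ∈ K S j → x * z * x⁻¹ * z⁻¹ ∈ K S (i + j) := by
    rintro i j _ _ ⟨x, hx, rfl⟩ ⟨z, hz, rfl⟩
    exact ⟨⁅x, z⁆, comm_memK hx hz, rfl⟩
  have cm' : ∀ {i : ℕ} {x g : Ω}, x ∈ K S i → g ∈ S → x * g * x⁻¹ * g⁻¹ ∈ K S (i + 1) := by
    rintro i _ g ⟨x, hx, rfl⟩ hg
    exact ⟨⁅x, ⟨g, hg⟩⁆, comm_memK' hx ⟨g, hg⟩, rfl⟩
  have cy : ∀ x ∈ K S 2, x * y * x⁻¹ * y⁻¹ ∈ K S 4 := by
    rintro _ ⟨x, hx, rfl⟩
    obtain ⟨y0, hy0, hyy⟩ := hE1 hy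
    have := mem_TC.1 hy0 x hx
    refine ⟨⁅x, y0⁆, this, ?_⟩
    rw [← hyy]; rfl
  -- z0
  obtain ⟨z0, hz0, hz0y⟩ : ∃ z0 ∈ K S (n - 2), z0 * y ≠ y * z0 := by
    by_contra hcon
    push Not at hcon
    apply hy'
    refine ⟨⟨y, hyS⟩, ?_, rfl⟩
    rw [SetLike.mem_coe, mem_TC]
    intro x hx
    have h2 := hcon (x : Ω) ⟨x, hx, rfl⟩
    have h4 : ⁅x, (⟨y, hyS⟩ : S)⁆ = 1 := by
      rw [commutatorElement_eq_one_iff_mul_comm]
      exact Subtype.ext h2
    rw [h4]; exact one_mem _
  have hyK2 : y ∉ K S 2 := by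
    rintro ⟨y0, hy0, hyy⟩
    apply hy'
    exact ⟨y0, K2_le_TC _ hy0, hyy⟩
  -- N, DD
  set N := normalizerIn S E with hNdef
  have hNS : N ≤ S := inf_le_left
  haveI := fin _ hNS
  have hNp : IsPGroup p N := hS.to_le hNS
  have hEN : E ≤ N := le_inf hES Subgroup.le_normalizer
  set DD := N ⊓ K S 2 with hDD
  have hDN : DD < N := by
    refine lt_of_le_of_ne inf_le_left (fun h => hyK2 ?_)
    have : y ∈ DD := by rw [h]; exact hEN hy
    exact this.2
  have normE : ∀ x ∈ S, (∀ e ∈ E, x * e * x⁻¹ ∈ E) → x ∈ N := by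
    intro x hx h
    refine ⟨hx, ?_⟩
    have hle : E.map (MulAut.conj x).toMonoidHom ≤ E := by
      rintro _ ⟨e, he, rfl⟩
      exact h e he
    have heq : E.map (MulAut.conj x).toMonoidHom = E := by
      apply Subgroup.eq_of_le_of_card_ge hle
      exact (Nat.card_congr (E.equivMapOfInjective _ (MulAut.conj x).injective).toEquiv).le
    show x ∈ normalizer (E : Set Ω)
    rw [Subgroup.mem_normalizer_iff]
    intro e
    refine ⟨fun he => h e he, fun he => ?_⟩
    rw [← heq] at he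
    obtain ⟨e', he', hee⟩ := he
    have : e' = e := (MulAut.conj x).injective hee
    rw [← this]; exact he'
  have hz0D : z0 ∈ DD := by
    refine ⟨normE z0 (hKS _ hz0) fun e he => ?_, anti (by omega) hz0⟩
    have h2 := cm' hz0 (hES he)
    rw [show n - 2 + 1 = n - 1 by omega] at h2
    have h4 := mul_mem (h1 h2) he
    rwa [inv_mul_cancel_right] at h4
  set C := K S 2 ⊓ centralizer ({y} : Set Ω) with hC
  set H := E ⊓ K S (n - 3) with hH
  have hHy : H ⊔ zpowers y = E := by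
    have hle : H ⊔ zpowers y ≤ E := sup_le inf_le_left (by rw [zpowers_le]; exact hy)
    apply Subgroup.eq_of_le_of_card_ge hle
    have hlt : H < H ⊔ zpowers y := by
      refine lt_of_le_of_ne le_sup_left (fun h => hyK2 ?_)
      have : y ∈ H := by rw [h]; exact Subgroup.mem_sup_right (mem_zpowers y)
      exact anti (by omega) this.2
    have h4 := mul_le_of_lt (hS.to_le hES) hle hlt
    rw [hc] at h4
    rw [D.card]
    calc p ^ 3 = p * p ^ 2 := by ring
      _ ≤ _ := h4
  -- elements with [x, y] ∈ H normalize E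
  have hX : ∀ x ∈ K S 2, x * y * x⁻¹ * y⁻¹ ∈ H → x ∈ DD := by
    intro x hx hxy
    refine ⟨normE x (hKS _ hx) ?_, hx⟩
    have hle : E ≤ E.comap (MulAut.conj x).toMonoidHom := by
      conv_lhs => rw [← hHy]
      refine sup_le ?_ ?_
      · intro h hh
        show x * h * x⁻¹ ∈ E
        have h2 := cm hx hh.2
        rw [show 2 + (n - 3) = n - 1 by omega] at h2
        have h4 := mul_mem (h1 h2) hh.1
        rwa [inv_mul_cancel_right] at h4
      · rw [zpowers_le]
        show x * y * x⁻¹ ∈ E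
        have h4 := mul_mem hxy.1 hy
        rwa [inv_mul_cancel_right] at h4
    exact fun e he => hle he
  have hCD : C < DD := by
    refine lt_of_le_of_ne ?_ (fun h => hz0y ?_)
    · intro x hx
      apply hX x hx.1
      have : x * y * x⁻¹ * y⁻¹ = 1 := by
        have h2 : y * x = x * y := (Subgroup.mem_centralizer_singleton_iff.1 hx.2).symm
        rw [← h2]; group
      rw [this]; exact one_mem _
    · have : z0 ∈ C := by rw [h]; exact hz0D
      exact Subgroup.mem_centralizer_singleton_iff.1 this.2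
  have c1 := mul_le_of_lt hNp (le_refl N) hDN
  have c2 := mul_le_of_lt hNp hDN.le hCD
  rw [hN] at c1
  have hpp := hp.out.pos
  have c3 : Nat.card DD ≤ p ^ 3 := by
    have : p * Nat.card DD ≤ p * p ^ 3 := by
      calc p * Nat.card DD ≤ p ^ 4 := c1
        _ = p * p ^ 3 := by ring
    exact Nat.le_of_mul_le_mul_left this hpp
  have c4 : Nat.card C ≤ p ^ 2 := by
    have : p * Nat.card C ≤ p * p ^ 2 := by
      calc p * Nat.card C ≤ Nat.card DD := c2
        _ ≤ p ^ 3 := c3
        _ = p * p ^ 2 := by ring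
    exact Nat.le_of_mul_le_mul_left this hpp
  haveI := fin _ (hDN.le.trans hNS)
  haveI := fin C (inf_le_left.trans (hKS 2))
  haveI := Fintype.ofFinite (K S 2)
  haveI := Fintype.ofFinite (K S 4)
  let f : K S 2 → K S 4 := fun x => ⟨(x : Ω) * y * (x : Ω)⁻¹ * y⁻¹, cy x x.2⟩
  let X : Finset (K S 2) := Finset.univ.filter (fun x => (f x : Ω) ∈ H)
  let Y : Finset (K S 2) := Finset.univ.filter (fun x => ¬ (f x : Ω) ∈ H)
  let H4 : Finset (K S 4) := Finset.univ.filter (fun k => (k : Ω) ∈ H)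
  let Z4 : Finset (K S 4) := Finset.univ.filter (fun k => ¬ (k : Ω) ∈ H)
  have e1 : X.card + Y.card = p ^ (n - 2) := by
    have := Finset.card_filter_add_card_filter_not (s := (Finset.univ : Finset (K S 2))) (fun x => (f x : Ω) ∈ H)
    rw [Finset.card_univ, ← Nat.card_eq_fintype_card, cK 2 le_rfl (by omega)] at this
    exact this
  have e2 : H4.card + Z4.card = p ^ (n - 4) := by
    have := Finset.card_filter_add_card_filter_not (s := (Finset.univ : Finset (K S 4))) (fun k => (k : Ω) ∈ H)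
    rw [Finset.card_univ, ← Nat.card_eq_fintype_card, cK 4 (by omega) (by omega)] at this
    exact this
  have e3 : H4.card = p ^ 2 := by
    rw [← hc]
    have hHle : H ≤ K S 4 := inf_le_right.trans (anti (by omega))
    haveI := fin H (inf_le_left.trans hES)
    rw [← Nat.card_eq_finsetCard]
    exact Nat.card_congr ⟨fun k => ⟨((k : K S 4) : Ω), (Finset.mem_filter.1 k.2).2⟩,
      fun h => ⟨⟨h, hHle h.2⟩, Finset.mem_filter.2 ⟨Finset.mem_univ _, h.2⟩⟩, fun _ => rfl, fun _ => rfl⟩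
  have e4 : Y.card ≤ p ^ 2 * Z4.card := by
    apply Finset.card_le_mul_card_image_of_maps_to (f := f)
    · intro x hx
      rw [Finset.mem_filter] at hx ⊢
      exact ⟨Finset.mem_univ _, hx.2⟩
    · intro k _
      refine le_trans ?_ c4
      by_cases hne : (Y.filter (fun x => f x = k)).Nonempty
      · obtain ⟨a0, ha0⟩ := hne
        have ha0k := (Finset.mem_filter.1 ha0).2
        rw [← Nat.card_eq_finsetCard]
        have hmap : ∀ a : (Y.filter (fun x => f x = k)), ((a0 : Ω)⁻¹ * ((a : K S 2) : Ω)) ∈ C := by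
          intro a
          have hak := (Finset.mem_filter.1 a.2).2
          refine ⟨(K S 2).mul_mem ((K S 2).inv_mem a0.2) (a : K S 2).2, ?_⟩
          show _ ∈ centralizer ({y} : Set Ω)
          rw [Subgroup.mem_centralizer_singleton_iff]
          have h5 : (a0 : Ω) * y * (a0 : Ω)⁻¹ * y⁻¹ = ((a : K S 2) : Ω) * y * ((a : K S 2) : Ω)⁻¹ * y⁻¹ :=
            congrArg Subtype.val (ha0k.trans hak.symm)
          have h6 : (a0 : Ω) * y * (a0 : Ω)⁻¹ = ((a : K S 2) : Ω) * y * ((a : K S 2) : Ω)⁻¹ :=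
            mul_right_cancel h5
          calc (a0 : Ω)⁻¹ * ((a : K S 2) : Ω) * y
              = (a0 : Ω)⁻¹ * (((a : K S 2) : Ω) * y * ((a : K S 2) : Ω)⁻¹) * ((a : K S 2) : Ω) := by group
            _ = (a0 : Ω)⁻¹ * ((a0 : Ω) * y * (a0 : Ω)⁻¹) * ((a : K S 2) : Ω) := by rw [h6]
            _ = _ := by group
        apply Nat.card_le_card_of_injective (fun a : (Y.filter (fun x => f x = k)) => (⟨_, hmap a⟩ : C))
        intro a b hab
        have := congrArg Subtype.val hab
        exact Subtype.ext (Subtype.ext (mul_left_cancel this))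
      · rw [Finset.not_nonempty_iff_eq_empty] at hne
        rw [hne, Finset.card_empty]; exact Nat.zero_le _
  have e5 : X.card ≤ p ^ 3 := by
    refine le_trans ?_ c3
    rw [← Nat.card_eq_finsetCard]
    apply Nat.card_le_card_of_injective (fun a : X => (⟨((a : K S 2) : Ω), hX _ (a : K S 2).2
      (Finset.mem_filter.1 a.2).2⟩ : DD))
    intro a b hab
    have hab2 := congrArg Subtype.val hab
    exact Subtype.ext (Subtype.ext hab2)
  have e6 : p ^ (n - 2) = p ^ 2 * p ^ (n - 4) := by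
    rw [← pow_add]; congr 1; omega
  have e7 : p ^ 3 < p ^ 4 := Nat.pow_lt_pow_right hp.out.one_lt (by norm_num)
  have e8 : p ^ 4 = p ^ 2 * p ^ 2 := by ring
  rw [e6, ← e2, e3, mul_add, ← e8] at e1
  omega

end H72.MXS1c
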