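import Mathlib

set_option autoImplicit false
set_option linter.style.haveILetI false

/-! S5316, piece T: the linear lemma. -/

namespace H72.MXT

open Subgroup

theorem fpq {E : Type*} [CommGroup E] [Finite E] {p : ℕ} [Fact p.Prime] (hE : IsPGroup p E)
    {P : Subgroup (MulAut E)} (hP : IsPGroup p P) (V : Subgroup E)
    (hV : ∀ a ∈ P, ∀ v ∈ V, a v ∈ V) (hne : V ≠ ⊤) : ∃ e, e ∉ V ∧ ∀ a ∈ P, a e * e⁻¹ ∈ V := by
  haveI : MulAction.QuotientAction P V := ⟨by
    intro b a a' h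
    have h1 : (b • a)⁻¹ * b • a' = (b : MulAut E) (a⁻¹ * a') := by
      show ((b : MulAut E) a)⁻¹ * (b : MulAut E) a' = _
      rw [map_mul, map_inv]
    rw [h1]
    exact hV b b.2 _ h⟩
  have hq : IsPGroup p (E ⧸ V) := hE.to_quotient V
  have hd : p ∣ Nat.card (E ⧸ V) := by
    obtain ⟨n, hn⟩ := IsPGroup.iff_card.1 hq
    rw [hn]
    have : n ≠ 0 := by
      rintro rfl
      apply hne
      rw [← Subgroup.index_eq_one]
      rw [Subgroup.index, hn, pow_zero]
    exact dvd_pow_self p this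
  have h1 : ((1 : E) : E ⧸ V) ∈ MulAction.fixedPoints P (E ⧸ V) := by
    intro a
    show ((a • (1 : E) : E) : E ⧸ V) = ((1 : E) : E ⧸ V)
    have : a • (1 : E) = 1 := map_one (a : MulAut E)
    rw [this]
  obtain ⟨b, hb, hb1⟩ := hP.exists_fixed_point_of_prime_dvd_card_of_fixed_point (E ⧸ V) hd h1
  obtain ⟨e, rfl⟩ := QuotientGroup.mk_surjective b
  refine ⟨e, ?_, ?_⟩
  · intro he
    apply hb1
    rw [QuotientGroup.eq]
    simpa using he
  · intro a ha
    have h2 := hb ⟨a, ha⟩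
    have h3 : ((a e : E) : E ⧸ V) = ((e : E) : E ⧸ V) := h2
    rw [QuotientGroup.eq] at h3
    have h4 := inv_mem h3
    have h5 : ((a e)⁻¹ * e)⁻¹ = a e * e⁻¹ := by
      rw [mul_inv_rev, inv_inv, mul_comm]
    rwa [h5] at h4

theorem pow_tv {E : Type*} [CommGroup E] (φ : MulAut E) (h : ∀ x, φ (φ x * x⁻¹) = φ x * x⁻¹) :
    ∀ (n : ℕ) (x : E), (φ ^ n) x = (φ x * x⁻¹) ^ n * x := by
  intro n
  induction n with
  | zero => intro x; simp
  | succ n ih =>
    intro x
    rw [pow_succ', MulAut.mul_apply, ih, map_mul, map_pow, h, pow_succ]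
    have : φ x = (φ x * x⁻¹) * x := by rw [inv_mul_cancel_right]
    rw [mul_assoc]
    congr 1

/-- `x ↦ φ x * x⁻¹` -/
def dl {E : Type*} [CommGroup E] (φ : MulAut E) : E →* E where
  toFun x := φ x * x⁻¹
  map_one' := by rw [map_one, inv_one, mul_one]
  map_mul' x y := by
    rw [map_mul, mul_inv]
    exact mul_mul_mul_comm _ _ _ _

theorem dl_apply {E : Type*} [CommGroup E] (φ : MulAut E) (x : E) : dl φ x = φ x * x⁻¹ := rfl

theorem ap {E : Type*} [CommGroup E] (φ : MulAut E) (x : E) : φ x = dl φ x * x := by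
  rw [dl_apply, inv_mul_cancel_right]

theorem dl_one {E : Type*} [CommGroup E] (φ : MulAut E) {x : E} (h : φ x = x) : dl φ x = 1 := by
  rw [dl_apply, h, mul_inv_cancel]

theorem of_dl {E : Type*} [CommGroup E] (φ : MulAut E) {x : E} (h : dl φ x = 1) : φ x = x := by
  rw [ap, h, one_mul]

theorem card_mul_le {E : Type*} [CommGroup E] [Finite E] {p : ℕ} [hp : Fact p.Prime]
    (hE : IsPGroup p E) {H K : Subgroup E} (h : H < K) : p * Nat.card H ≤ Nat.card K := by
  obtain ⟨a, ha⟩ := IsPGroup.iff_card.1 (hE.to_subgroup H)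
  obtain ⟨b, hb⟩ := IsPGroup.iff_card.1 (hE.to_subgroup K)
  have h1 : Nat.card H < Nat.card K := by
    apply lt_of_le_of_ne (Subgroup.card_le_of_le h.le)
    intro he
    exact h.ne (Subgroup.eq_of_le_of_card_ge h.le he.ge)
  rw [ha, hb] at h1 ⊢
  have h2 : a < b := (Nat.pow_lt_pow_iff_right hp.out.one_lt).1 h1
  rw [← pow_succ']
  exact Nat.pow_le_pow_right hp.out.pos h2

/-- a transvection-like element of `P` -/
theorem exists_t {E : Type*} [CommGroup E] [Finite E] {p : ℕ} [hp : Fact p.Prime]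
    (hcard : Nat.card E = p ^ 3) (hpow : ∀ x : E, x ^ p = 1) {P : Subgroup (MulAut E)}
    (hPp : IsPGroup p P) (hcP : p < Nat.card P) :
    ∃ v1 : E, v1 ≠ 1 ∧ (∀ a ∈ P, a v1 = v1) ∧ ∃ t ∈ P, t ≠ 1 ∧ ∀ x, dl t x ∈ zpowers v1 := by
  have hfA : Finite (MulAut E) := by
    apply Finite.of_injective (fun φ : MulAut E => (φ : E → E))
    intro a b h
    exact MulEquiv.ext (fun x => congrFun h x)
  have hEp : IsPGroup p E := fun x => ⟨1, by rw [pow_one]; exact hpow x⟩
  have hp1 := hp.out.one_lt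
  have hbt : (⊥ : Subgroup E) ≠ ⊤ := by
    intro h
    have : Nat.card (⊤ : Subgroup E) = 1 := by rw [← h]; exact Subgroup.card_bot
    rw [Subgroup.card_top, hcard] at this
    have h3 : 1 < p ^ 3 := Nat.one_lt_pow (by norm_num) hp1
    omega
  obtain ⟨v1, hv1, hv1f⟩ := fpq hEp hPp ⊥ (by
    intro a _ v hv
    rw [Subgroup.mem_bot] at hv ⊢
    rw [hv, map_one]) hbt
  replace hv1f : ∀ a ∈ P, a v1 = v1 := fun a ha => by
    have := Subgroup.mem_bot.1 (hv1f a ha)
    rwa [mul_inv_eq_one] at this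
  replace hv1 : v1 ≠ 1 := fun h => hv1 (Subgroup.mem_bot.2 h)
  refine ⟨v1, hv1, hv1f, ?_⟩
  have ov1 : orderOf v1 = p := orderOf_eq_prime (hpow v1) hv1
  set V1 := zpowers v1 with hV1
  have cV1 : Nat.card V1 = p := by rw [Nat.card_zpowers, ov1]
  have fV1 : ∀ a ∈ P, ∀ v ∈ V1, a v = v := by
    intro a ha v hv
    obtain ⟨k, rfl⟩ := Subgroup.mem_zpowers_iff.1 hv
    rw [map_zpow, hv1f a ha]
  have hV1t : V1 ≠ ⊤ := by
    intro h
    have : Nat.card (⊤ : Subgroup E) = p := by rw [← h]; exact cV1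
    rw [Subgroup.card_top, hcard] at this
    have h3 : p ^ 1 < p ^ 3 := Nat.pow_lt_pow_right hp1 (by norm_num)
    rw [pow_one] at h3
    omega
  obtain ⟨v2, hv2, hv2f⟩ := fpq hEp hPp V1 (fun a ha v hv => by rw [fV1 a ha v hv]; exact hv) hV1t
  set V2 := V1 ⊔ zpowers v2 with hV2
  have hV2le : Nat.card V2 ≤ p * p := by
    have h1 : Function.Surjective (fun z : V1 × zpowers v2 =>
        (⟨(z.1 : E) * z.2, Subgroup.mul_mem_sup z.1.2 z.2.2⟩ : V2)) := by
      rintro ⟨x, hx⟩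
      obtain ⟨y, hy, z, hz, rfl⟩ := Subgroup.mem_sup.1 hx
      exact ⟨(⟨y, hy⟩, ⟨z, hz⟩), rfl⟩
    have h2 := Nat.card_le_card_of_surjective _ h1
    rw [Nat.card_prod, cV1] at h2
    refine h2.trans (Nat.mul_le_mul_left p ?_)
    rw [Nat.card_zpowers]
    exact orderOf_le_of_pow_eq_one hp.out.pos (hpow v2)
  have hV2t : V2 ≠ ⊤ := by
    intro h
    rw [h, Subgroup.card_top, hcard] at hV2le
    have h3 : p ^ 2 < p ^ 3 := Nat.pow_lt_pow_right hp1 (by norm_num)
    rw [pow_two] at h3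
    omega
  have hV2inv : ∀ a ∈ P, ∀ v ∈ V2, a v ∈ V2 := by
    intro a ha v hv
    obtain ⟨y, hy, z, hz, rfl⟩ := Subgroup.mem_sup.1 hv
    obtain ⟨k, rfl⟩ := Subgroup.mem_zpowers_iff.1 hz
    rw [map_mul, map_zpow, fV1 a ha y hy]
    refine mul_mem (Subgroup.mem_sup_left hy) (zpow_mem ?_ k)
    have h1 : a v2 = (a v2 * v2⁻¹) * v2 := by rw [inv_mul_cancel_right]
    rw [h1]
    exact mul_mem (Subgroup.mem_sup_left (hv2f a ha)) (Subgroup.mem_sup_right (mem_zpowers v2))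
  obtain ⟨e, he, hef⟩ := fpq hEp hPp V2 hV2inv hV2t
  -- pigeonhole
  let f : P → zpowers ((v2 : E) : E ⧸ V1) := fun a =>
    ⟨(((a : MulAut E) e * e⁻¹ : E) : E ⧸ V1), by
      obtain ⟨y, hy, z, hz, hyz⟩ := Subgroup.mem_sup.1 (hef a a.2)
      obtain ⟨k, rfl⟩ := Subgroup.mem_zpowers_iff.1 hz
      rw [← hyz]
      refine Subgroup.mem_zpowers_iff.2 ⟨k, ?_⟩
      rw [← QuotientGroup.mk_zpow, QuotientGroup.eq]
      have : (v2 ^ k)⁻¹ * (y * v2 ^ k) = y := by
        rw [mul_comm y, inv_mul_cancel_left]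
      rw [this]; exact hy⟩
  have hninj : ¬ Function.Injective f := by
    intro hinj
    have h1 := Nat.card_le_card_of_injective f hinj
    rw [Nat.card_zpowers] at h1
    have h2 : orderOf ((v2 : E) : E ⧸ V1) ≤ p := by
      apply orderOf_le_of_pow_eq_one hp.out.pos
      rw [← QuotientGroup.mk_pow, hpow, QuotientGroup.mk_one]
    omega
  obtain ⟨a, b, hab, hne⟩ : ∃ a b : P, f b = f a ∧ a ≠ b := by
    unfold Function.Injective at hninj
    push Not at hninj
    obtain ⟨a, b, h1, h2⟩ := hninj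
    exact ⟨a, b, h1.symm, h2⟩
  have hw := congrArg Subtype.val hab
  change (((b : MulAut E) e * e⁻¹ : E) : E ⧸ V1) = (((a : MulAut E) e * e⁻¹ : E) : E ⧸ V1) at hw
  rw [QuotientGroup.eq] at hw
  set c : MulAut E := (b : MulAut E)⁻¹ * a with hc
  have hcP' : c ∈ P := mul_mem (inv_mem b.2) a.2
  have hc1 : c ≠ 1 := by
    intro h
    apply hne
    rw [hc, inv_mul_eq_one] at h
    exact (Subtype.ext h).symm
  refine ⟨c, hcP', hc1, ?_⟩
  have hce : dl c e ∈ V1 := by
    set w := ((b : MulAut E) e * e⁻¹)⁻¹ * ((a : MulAut E) e * e⁻¹) with hwd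
    have h1 : (a : MulAut E) e = (b : MulAut E) e * w := by
      rw [hwd, mul_inv, inv_inv]
      calc (a : MulAut E) e = (b : MulAut E) e * ((b : MulAut E) e)⁻¹ * (e * e⁻¹) * (a : MulAut E) e := by
            rw [mul_inv_cancel, mul_inv_cancel, one_mul, one_mul]
        _ = _ := by
            simp only [mul_assoc, mul_comm, mul_left_comm]
    have h2 : c e = e * w := by
      rw [hc, MulAut.mul_apply, h1, map_mul, fV1 _ (inv_mem b.2) w hw, MulAut.inv_apply_self]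
    rw [dl_apply, h2, mul_comm e, mul_inv_cancel_right]
    exact hw
  -- the subgroup of all `x` with `dl c x ∈ V1`
  have hV3 : V1.comap (dl c) = ⊤ := by
    have h1 : V1 < V2 := by
      refine lt_of_le_of_ne le_sup_left (fun h => hv2 ?_)
      rw [h]; exact Subgroup.mem_sup_right (mem_zpowers v2)
    have h2 : V2 < V2 ⊔ zpowers e := by
      refine lt_of_le_of_ne le_sup_left (fun h => he ?_)
      rw [h]; exact Subgroup.mem_sup_right (mem_zpowers e)
    have h3 := card_mul_le hEp h1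
    have h4 := card_mul_le hEp h2
    have h5 : V2 ⊔ zpowers e ≤ V1.comap (dl c) := by
      refine sup_le (sup_le ?_ ?_) ?_
      · rw [hV1, zpowers_le]
        show dl c v1 ∈ V1
        rw [dl_one c (hv1f c hcP')]; exact one_mem _
      · rw [zpowers_le]; exact hv2f c hcP'
      · rw [zpowers_le]; exact hce
    rw [eq_top_iff]
    refine le_trans (le_of_eq (Eq.symm ?_)) h5
    apply Subgroup.eq_top_of_le_card
    rw [hcard]
    rw [cV1] at h3
    calc p ^ 3 = p * (p * p) := by ring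
      _ ≤ p * Nat.card V2 := Nat.mul_le_mul_left p h3
      _ ≤ _ := h4
  intro x
  have : x ∈ V1.comap (dl c) := by rw [hV3]; exact Subgroup.mem_top x
  exact this

theorem lemA {V : Type*} [CommGroup V] [Finite V] {p : ℕ} [hp : Fact p.Prime]
    (hV : Nat.card V = p ^ 3) (hexp : ∀ v : V, v ^ p = 1) {P : Subgroup (MulAut V)}
    (hP : IsPGroup p P) (hc : p < Nat.card P) :
    ∃ t ∈ P, t ≠ 1 ∧ ∃ X : Subgroup V, Nat.card X = p ∧ (∀ v, v⁻¹ * t v ∈ X) ∧
      ∀ y ∈ P, ∀ x ∈ X, y x = x := by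
  obtain ⟨v1, hv1, hf, t, ht, ht1, hd⟩ := exists_t hV hexp hP hc
  refine ⟨t, ht, ht1, zpowers v1, ?_, ?_, ?_⟩
  · rw [Nat.card_zpowers]; exact orderOf_eq_prime (hexp v1) hv1
  · intro v; rw [mul_comm]; exact hd v
  · intro y hy x hx
    obtain ⟨k, rfl⟩ := Subgroup.mem_zpowers_iff.1 hx
    rw [map_zpow, hf y hy]

end H72.MXT
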