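import Cfsg.Agent.Lib.H57.Ess4

/-! S5316, piece T: the strongly `p`-embedded subgroup of the automizer. -/

set_option autoImplicit false
open Cfsg Cfsg.FusionSystem H86.FusBasic H86.FusSat H86.FusAlperin H86.StrEmb H57.Ess

namespace H72.MXT

variable {Ω : Type*} [Group Ω] {S : Subgroup Ω}

theorem exists_M [Finite S] {p : ℕ} [hp : Fact p.Prime] (hS : IsPGroup p S) {F : FusionSystem S}
    (hF : F.IsSaturated p) {P : Subgroup Ω} (hP : F.IsEssential p P)
    (hcomm : ∀ a b : P, a * b = b * a) :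
    ∃ M : Subgroup (MulAut P), M ≤ F.autGroup P ∧ (∃ g ∈ F.autGroup P, g ∉ M) ∧
      autInducedBy S P ≤ M ∧
      ∀ g ∈ F.autGroup P, g ∉ M → ∀ x ∈ M, g * x * g⁻¹ ∈ M → (∃ k : ℕ, x ^ p ^ k = 1) → x = 1 := by
  obtain ⟨hPc, hPn, hN, E, hE⟩ := hP
  have hfP : Finite P := finite_of_le hPc.1
  have hfA : Finite (MulAut P) := finite_mulAut P
  obtain ⟨T0, hT0⟩ := exists_sylow_out (fullyNormalized_spec hS hF hPn).2
  obtain ⟨T, hT⟩ := exists_good hE
  obtain ⟨c, hc⟩ := MulAction.exists_smul_eq (F.autGroup P ⧸ (Inn P).subgroupOf (F.autGroup P)) T T0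
  obtain ⟨-, hne, hg⟩ := isStronglyPEmbedded_iff.1 hE
  obtain ⟨g0, hg0E⟩ : ∃ g, g ∉ E := by
    by_contra h
    push Not at h
    exact hne (top_le_iff.1 fun x _ => h x)
  have hcT : ∀ t, t ∈ (T0 : Subgroup _) → c⁻¹ * t * c ∈ (T : Subgroup _) := by
    intro t ht
    rw [← hc, Sylow.coe_subgroup_smul, Subgroup.mem_pointwise_smul_iff_inv_smul_mem] at ht
    simpa [MulAut.smul_def] using ht
  let π := QuotientGroup.mk' ((Inn P).subgroupOf (F.autGroup P))
  let M0 : Subgroup (F.autGroup P) :=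
    (E.comap (MulAut.conj c⁻¹).toMonoidHom).comap π
  have mM0 : ∀ {a : F.autGroup P}, a ∈ M0 ↔ c⁻¹ * π a * c ∈ E := by
    intro a
    show (MulAut.conj c⁻¹) (π a) ∈ E ↔ _
    rw [MulAut.conj_apply, inv_inv]
  have mM : ∀ {a : F.autGroup P}, (a : MulAut P) ∈ M0.map (F.autGroup P).subtype ↔ a ∈ M0 := by
    intro a
    constructor
    · rintro ⟨b, hb, hab⟩
      have : b = a := Subtype.ext hab
      rw [← this]; exact hb
    · intro ha
      exact ⟨a, ha, rfl⟩
  refine ⟨M0.map (F.autGroup P).subtype, Subgroup.map_subtype_le M0, ?_, ?_, ?_⟩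
  · obtain ⟨a, ha⟩ := QuotientGroup.mk'_surjective ((Inn P).subgroupOf (F.autGroup P)) (c * g0 * c⁻¹)
    refine ⟨a, a.2, fun h => ?_⟩
    rw [mM, mM0] at h
    have h1 : π a = c * g0 * c⁻¹ := ha
    rw [h1] at h
    apply hg0E
    have h2 : c⁻¹ * (c * g0 * c⁻¹) * c = g0 := by group
    rwa [h2] at h
  · intro γ hγ
    have hγF : γ ∈ F.autGroup P := autInducedBy_le_autGroup F hPc.1 hγ
    have h1 : π ⟨γ, hγF⟩ ∈ (T0 : Subgroup _) := by
      rw [hT0]
      obtain ⟨x, hxN, hxS, hx⟩ := mem_autInducedBy'.1 hγ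
      refine ⟨⟨x, hxS, hxN⟩, ?_⟩
      obtain ⟨h, e⟩ := outHom_apply F hPc.1 ⟨x, hxS, hxN⟩
      rw [e]
      show π _ = π _
      congr 1
      exact Subtype.ext hx.symm
    exact (mM (a := ⟨γ, hγF⟩)).2 (mM0.2 (hT.1 (hcT _ h1)))
  · intro g hgA hgM x hx hgx hk
    obtain ⟨k, hk⟩ := hk
    have hxA : x ∈ F.autGroup P := Subgroup.map_subtype_le M0 hx
    set x' : F.autGroup P := ⟨x, hxA⟩ with hx'
    set g' : F.autGroup P := ⟨g, hgA⟩ with hg'
    have h1 : c⁻¹ * π x' * c ∈ E := mM0.1 ((mM (a := x')).1 hx)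
    have h2 : c⁻¹ * π (g' * x' * g'⁻¹) * c ∈ E := mM0.1 ((mM (a := g' * x' * g'⁻¹)).1 hgx)
    have h3 : c⁻¹ * π g' * c ∉ E := fun h => hgM ((mM (a := g')).2 (mM0.2 h))
    set u := c⁻¹ * π x' * c with hu
    set w := c⁻¹ * π g' * c with hw
    have h4 : w * u * w⁻¹ ∈ E := by
      have : w * u * w⁻¹ = c⁻¹ * π (g' * x' * g'⁻¹) * c := by
        rw [hw, hu, map_mul, map_mul, map_inv]; group
      rw [this]; exact h2
    have h5 : u ∈ E ⊓ E.map (MulAut.conj w⁻¹).toMonoidHom :=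
      ⟨h1, ⟨_, h4, by simp [mul_assoc]⟩⟩
    have h6 := hg w⁻¹ (fun h => h3 ((inv_mem_iff).1 h))
    have h7 : orderOf u ∣ Nat.card (E ⊓ E.map (MulAut.conj w⁻¹).toMonoidHom : Subgroup _) := by
      rw [← Subgroup.orderOf_mk u h5]
      exact orderOf_dvd_natCard _
    have h8 : u ^ p ^ k = 1 := by
      have h9 : x' ^ p ^ k = 1 := Subtype.ext hk
      have h10 : u ^ p ^ k = c⁻¹ * (π x') ^ p ^ k * c := by
        rw [hu]
        have := conj_pow (a := c⁻¹) (b := π x') (i := p ^ k)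
        rw [inv_inv] at this
        exact this
      rw [h10, ← map_pow, h9, map_one]; group
    have h9 : u = 1 := by
      rw [← orderOf_eq_one_iff]
      obtain ⟨j, hj, hj2⟩ := (Nat.dvd_prime_pow hp.out).1 (orderOf_dvd_of_pow_eq_one h8)
      rw [hj2] at h7 ⊢
      rcases Nat.eq_zero_or_pos j with h0 | h0
      · rw [h0, pow_zero]
      · exact absurd ((dvd_pow_self p h0.ne').trans h7) h6
    have h10 : π x' = 1 := by
      calc π x' = c * u * c⁻¹ := by rw [hu]; group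
        _ = 1 := by rw [h9]; group
    have h11 : (x' : MulAut P) ∈ Inn P := by
      have : π x' = QuotientGroup.mk' ((Inn P).subgroupOf (F.autGroup P)) x' := rfl
      rw [this, QuotientGroup.mk'_apply, QuotientGroup.eq_one_iff, Subgroup.mem_subgroupOf] at h10
      exact h10
    rw [inn_eq_bot hcomm, Subgroup.mem_bot] at h11
    exact h11

end H72.MXT
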