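import Cfsg.Agent.Lib.H89.MX0
import Cfsg.Agent.Lib.H72.MXTa
import Cfsg.Agent.Lib.H72.MXTe
import Cfsg.Agent.Lib.H75.MXB

/-! S5316, piece T (card_norm). -/

set_option autoImplicit false
open Subgroup Cfsg Cfsg.FusionSystem H67.HallPetrescu H57.Mc H89.MX
open H86.FusBasic H86.FusSat H86.FusAlperin H86.StrEmb H57.Ess

namespace H72.MXT

variable {Ω : Type*} [Group Ω] {S : Subgroup Ω} [Finite S] {p n : ℕ} [hp : Fact p.Prime]
  {F : FusionSystem S} {E : Subgroup Ω}

theorem card_norm (D : Dat S p n F E) : Nat.card (normalizerIn S E) = p ^ 4 := by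
  have hS : IsPGroup p S := IsPGroup.iff_card.2 ⟨n, D.mc.card⟩
  have hcomm : ∀ a b : E, a * b = b * a := fun a b => Subtype.ext (D.comm a a.2 b b.2)
  have hexp : ∀ v : E, v ^ p = 1 := fun v => Subtype.ext (by
    rw [Subgroup.coe_pow]; exact D.pow v v.2)
  have hES : E ≤ S := D.ess.1.1
  have hfE : Finite E := finite_of_le hES
  have hfA : Finite (MulAut E) := finite_mulAut E
  have h1 := card_autInducedBy_mul S E
  have h2 : centralizerIn S E = E := by
    apply le_antisymm (centralizerIn_le_of_essential D.ess)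
    intro x hx
    refine mem_centralizerIn.2 ⟨hES hx, fun y hy => ?_⟩
    exact congrArg Subtype.val (hcomm ⟨y, hy⟩ ⟨x, hx⟩)
  rw [h2, D.card] at h1
  have hPp : IsPGroup p (autInducedBy S E) := isPGroup_autInducedBy hS E
  have hne := autInducedBy_ne_bot hS D.sat D.ess
  obtain ⟨M, hMA, ⟨g0, hg0, hg0M⟩, hPM, hse⟩ := exists_M hS D.sat D.ess hcomm
  have hle : Nat.card (autInducedBy S E) ≤ p := by
    by_contra hlt
    push Not at hlt
    letI : CommGroup E := { (inferInstance : Group E) with mul_comm := hcomm }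
    obtain ⟨t, ht, ht1, X, hX, htX, hfix⟩ := lemA D.card hexp hPp hlt
    have h3 := H75.MXB.lemB hexp hPM hMA hg0 hg0M hse hPp ht ht1 hX htX hfix
    have h4 : orderOf t ≤ p := by
      apply orderOf_le_of_pow_eq_one hp.out.pos
      have hXf : ∀ x ∈ X, t x = x := hfix t ht
      have h5 : ∀ x, t (t x * x⁻¹) = t x * x⁻¹ := fun x => hXf _ (by
        rw [mul_comm]; exact htX x)
      ext x
      have h6 := pow_tv t h5 p x
      rw [h6, hexp, one_mul]
      rfl
    rw [h3, Nat.card_zpowers] at hlt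
    omega
  have hge : p ≤ Nat.card (autInducedBy S E) := by
    obtain ⟨k, hk⟩ := IsPGroup.iff_card.1 hPp
    rw [hk]
    have : k ≠ 0 := by
      rintro rfl
      apply hne
      rw [← Subgroup.card_eq_one, hk, pow_zero]
    exact Nat.le_self_pow this p
  have h3 : Nat.card (autInducedBy S E) = p := le_antisymm hle hge
  rw [← h1, h3]
  ring

end H72.MXT
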